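import Groth.Agent.Lib.WeakLW.Field
import Groth.Agent.Lib.Zeta.Points
import Groth.Agent.Lib.Zeta.FiniteBase
import Groth.Agent.Lib.AlgSpDecent.SpecOrder
import Mathlib.Analysis.SpecificLimits.Normed
import Mathlib.FieldTheory.Finite.Extension

/-!
The abscissa of absolute convergence of the zeta series of a scheme of dimension `r` over a finite
field is at least `r`.
-/

universe u

set_option autoImplicit false
set_option linter.style.haveILetI false

open CategoryTheory AlgebraicGeometry

namespace Groth.Agent.Lib.WeakLW.Abscissa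

open Groth.Agent.Lib.Zeta Groth.Agent.Lib.AlgSpDecent

theorem exists_le_cohtPt {X : Type u} [TopologicalSpace X] [QuasiSober X] [T0Space X] (r : ℕ)
    (hr : topologicalKrullDim X = r) : ∃ x : X, (r : ℕ∞) ≤ SpecOrder.cohtPt x := by
  by_contra hall
  rw [not_exists] at hall
  rcases r with _ | r
  · have : IsEmpty X := ⟨fun x => hall x (by simp)⟩
    rw [SpecOrder.topologicalKrullDim_eq_iSup, iSup_of_empty] at hr
    simp at hr
  · have : topologicalKrullDim X ≤ ((r : ℕ∞) : WithBot ℕ∞) := by
      rw [SpecOrder.topologicalKrullDim_eq_iSup]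
      refine iSup_le fun x => WithBot.coe_le_coe.2 ?_
      have h := not_le.1 (hall x)
      rw [Nat.cast_add, Nat.cast_one] at h
      exact ENat.lt_add_one_iff (ENat.coe_ne_top r) |>.1 h
    rw [hr] at this
    have : ((r + 1 : ℕ) : WithBot ℕ∞) ≤ ((r : ℕ) : WithBot ℕ∞) := this
    norm_cast at this
    omega

theorem exists_prime_dim_eq (R : Type u) [CommRing R] (r : ℕ) (hr : ringKrullDim R = r) :
    ∃ p : Ideal R, p.IsPrime ∧ ringKrullDim (R ⧸ p) = r := by
  have h1 : ((r : ℕ) : WithBot ℕ∞) ≤ Order.krullDim (PrimeSpectrum R) := hr.ge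
  obtain ⟨l, hl⟩ : ∃ l : LTSeries (PrimeSpectrum R), l.length = r :=
    Order.le_krullDim_iff.1 h1
  refine ⟨l.head.asIdeal, l.head.2, le_antisymm ?_ ?_⟩
  · rw [← hr]
    exact ringKrullDim_le_of_surjective _ Ideal.Quotient.mk_surjective
  · rw [ringKrullDim_quotient]
    let l' : LTSeries (PrimeSpectrum.zeroLocus (R := R) l.head.asIdeal) :=
      LTSeries.mk l.length (fun i => ⟨l i, (PrimeSpectrum.mem_zeroLocus _ _).2 (l.head_le i)⟩)
        fun i j hij => l.strictMono hij
    refine Order.le_krullDim_iff.2 ⟨l', hl⟩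

variable {k : Type u} [Field k] [Finite k] {Y : Scheme.{u}} (f : Y ⟶ Spec (CommRingCat.of k))
  [LocallyOfFiniteType f] [QuasiCompact f]

/-- Many points in large finite extensions. -/
theorem exists_points_ge (r : ℕ) (hr : topologicalKrullDim Y = r) :
    ∃ (e₁ : ℕ) (c : ℝ), 0 < e₁ ∧ 0 < c ∧ ∀ m : ℕ, 0 < m →
      c * ((Nat.card k : ℝ) ^ (e₁ * m)) ^ r ≤ _root_.Zeta.nPts f (e₁ * m) := by
  classical
  obtain ⟨x, hx⟩ := exists_le_cohtPt r hr
  obtain ⟨_, ⟨U, hU, rfl⟩, hxU, -⟩ :=
    Y.isBasis_affineOpens.exists_subset_of_mem_open (Set.mem_univ x) isOpen_univ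
  set R := Γ(Y, U)
  have hdim : ringKrullDim R = r := by
    rw [← PrimeSpectrum.topologicalKrullDim_eq_ringKrullDim]
    haveI : QuasiSober (U : Set Y) := U.2.isOpenEmbedding_subtypeVal.quasiSober
    have e : topologicalKrullDim (U : Set Y) = topologicalKrullDim (PrimeSpectrum R) :=
      IsHomeomorph.topologicalKrullDim_eq _
        (Scheme.homeoOfIso hU.isoSpec).isHomeomorph
    rw [← e]
    refine le_antisymm ((topologicalKrullDim_subspace_le Y U).trans hr.le) ?_
    refine le_of_le_of_eq ?_ (SpecOrder.topologicalKrullDim_open U.2).symm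
    exact le_iSup_of_le ⟨x, hxU⟩ (WithBot.coe_le_coe.2 hx)
  obtain ⟨ψ, hψ⟩ : ∃ ψ : CommRingCat.of k ⟶ R, Spec.map ψ = hU.fromSpec ≫ f :=
    ⟨_, Spec.map_preimage _⟩
  letI := ψ.hom.toAlgebra
  haveI : Algebra.FiniteType k R := by
    show ψ.hom.FiniteType
    rw [← HasRingHomProperty.Spec_iff (P := @LocallyOfFiniteType), hψ]
    infer_instance
  obtain ⟨p, hp, hpd⟩ := exists_prime_dim_eq R r hdim
  haveI := hp
  obtain ⟨k2, _, _, ι, c, hc, hpts⟩ := Field.exists_points (k := k) (R ⧸ p) r hpd
  letI := ι.toAlgebra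
  haveI : Module.Finite k k2 := Module.Finite.of_finite
  refine ⟨Module.finrank k k2, c, Module.finrank_pos, hc, fun m hm => ?_⟩
  obtain ⟨q, hq⟩ := CharP.exists k2
  haveI : Fact q.Prime := ⟨(CharP.char_is_prime_or_zero k2 q).resolve_right (fun h0 => by
    subst h0
    haveI := CharP.charP_to_charZero k2
    exact not_finite k2)⟩
  haveI : NeZero m := ⟨hm.ne'⟩
  letI : Algebra (ZMod q) k2 := ZMod.algebra k2 q
  let E := FiniteField.Extension k2 q m
  let χ : E →ₐ[k2] AlgebraicClosure k2 := IsAlgClosed.lift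
  let F := χ.fieldRange
  haveI : Finite F := Finite.of_equiv E (AlgEquiv.ofInjectiveField χ).toEquiv
  have hFr : Module.finrank k2 F = m := by
    exact (AlgEquiv.ofInjectiveField χ).toLinearEquiv.finrank_eq.symm.trans
      (FiniteField.finrank_extension k2 q m)
  have hkF : Module.finrank k F = Module.finrank k k2 * m := by
    rw [← hFr, Module.finrank_mul_finrank]
  obtain ⟨N, hN, Φ, hΦ, hΦk⟩ := hpts F (algebraMap k2 F)
  have hcardF : (Nat.card F : ℝ) = (Nat.card k : ℝ) ^ (Module.finrank k k2 * m) := by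
    rw [← hkF, Module.natCard_eq_pow_finrank (K := k)]
    push_cast
    rfl
  rw [← hcardF]
  refine hN.trans ?_
  rw [← hkF, ← Points.pointCount_eq_nPts f F, Nat.cast_le, SgaExt.pointCount]
  haveI := Points.finite_points f F
  conv_lhs => rw [← Nat.card_fin N]
  refine Nat.card_le_card_of_injective (fun i =>
    ⟨Spec.map (CommRingCat.ofHom ((Φ i).comp (Ideal.Quotient.mk p))) ≫ hU.fromSpec, ?_⟩) ?_
  · rw [Category.assoc, ← hψ, ← Spec.map_comp]
    refine congrArg Spec.map (CommRingCat.hom_ext (RingHom.ext fun a => ?_))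
    exact (RingHom.congr_fun (hΦk i) a).trans (IsScalarTower.algebraMap_apply k k2 F a).symm
  · intro i j hij
    refine hΦ (Ideal.Quotient.ringHom_ext ?_)
    have h := Subtype.ext_iff.1 hij
    simp only [cancel_mono] at h
    exact congrArg CommRingCat.Hom.hom (Spec.map_injective h)

variable {f}

/-- Effective cycles of a given norm form a finite set, so each closed point is counted. -/
theorem degCount_le_cycleNormCount {e : ℕ} (he : 0 < e) {m : ℕ} (hm : 0 < m) :
    (_root_.Zeta.degCount f e ≤ _root_.Zeta.cycleNormCount Y ((Nat.card k ^ e) ^ m)) := by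
  classical
  have hN : ∀ x : Y, 0 < Points.deg f x →
      Nat.card (Y.residueField x) = Nat.card k ^ Points.deg f x := by
    intro x hx
    unfold Points.deg at hx ⊢
    letI := (Points.resMap f x).hom.toAlgebra
    haveI := Module.finite_of_finrank_pos hx
    exact Module.natCard_eq_pow_finrank
  have h2 : 2 ≤ Nat.card k := Finite.one_lt_card
  set n := (Nat.card k ^ e) ^ m
  have hn0 : 0 < n := by positivity
  have hS : {x : Y | Points.deg f x ∈ Finset.Icc 1 n}.Finite := by
    refine (Set.Finite.biUnion (Finset.finite_toSet (Finset.Icc 1 n)) fun d hd =>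
      Points.finite_setOf_deg f d (Finset.mem_Icc.1 hd).1).subset fun x hx => ?_
    exact Set.mem_biUnion (x := Points.deg f x) hx rfl
  haveI : Finite {α : Y →₀ ℕ // (∀ x ∈ α.support, IsClosed ({x} : Set Y)) ∧
      α.prod (fun x m => Nat.card (Y.residueField x) ^ m) = n} := by
    have key : ∀ (α : Y →₀ ℕ), (∀ x ∈ α.support, IsClosed ({x} : Set Y)) →
        α.prod (fun x m => Nat.card (Y.residueField x) ^ m) = n →
        ∀ x ∈ α.support, x ∈ hS.toFinset ∧ α x ≤ n := by
      intro α hcl hprod x hx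
      have hd := (Points.isClosed_iff_deg_pos f x).1 (hcl x hx)
      have hdvd : Nat.card (Y.residueField x) ^ α x ∣ n := hprod ▸ Finset.dvd_prod_of_mem _ hx
      have hle := Nat.le_of_dvd hn0 hdvd
      rw [hN x hd, ← pow_mul] at hle
      have h3 : Points.deg f x * α x < n :=
        lt_of_lt_of_le (Nat.lt_pow_self (by omega)) hle
      have hα : 0 < α x := Nat.pos_of_ne_zero (Finsupp.mem_support_iff.1 hx)
      refine ⟨?_, ?_⟩
      · simp only [Set.Finite.mem_toFinset, Set.mem_ofPred_eq, Finset.mem_Icc]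
        exact ⟨hd, by nlinarith⟩
      · nlinarith
    refine Finite.of_injective
      (fun α => fun x : hS.toFinset => (⟨min (α.1 x.1) n, by omega⟩ : Fin (n + 1))) ?_
    intro α β hab
    refine Subtype.ext (Finsupp.ext fun x => ?_)
    by_cases hxS : x ∈ hS.toFinset
    · have h := congrArg Fin.val (congrFun hab ⟨x, hxS⟩)
      simp only at h
      have ha : α.1 x ≤ n := by
        by_cases hx : x ∈ α.1.support
        · exact (key α.1 α.2.1 α.2.2 x hx).2
        · simp [Finsupp.notMem_support_iff.1 hx]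
      have hb : β.1 x ≤ n := by
        by_cases hx : x ∈ β.1.support
        · exact (key β.1 β.2.1 β.2.2 x hx).2
        · simp [Finsupp.notMem_support_iff.1 hx]
      omega
    · have ha : α.1 x = 0 := Finsupp.notMem_support_iff.1 fun hx => hxS (key α.1 α.2.1 α.2.2 x hx).1
      have hb : β.1 x = 0 := Finsupp.notMem_support_iff.1 fun hx => hxS (key β.1 β.2.1 β.2.2 x hx).1
      rw [ha, hb]
  refine Nat.card_le_card_of_injective (fun x => ⟨Finsupp.single x.1 m, ?_, ?_⟩) ?_
  · intro y hy
    rw [Finsupp.support_single _ hm.ne', Finset.mem_singleton] at hy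
    exact hy ▸ x.2.1
  · have hd : Points.deg f x.1 = e := by rw [← Points.residueDegree_eq_deg]; exact x.2.2
    rw [Finsupp.prod_single_index (by simp), hN x.1 (by rw [hd]; exact he), hd]
  · intro a b hab
    exact Subtype.ext (Finsupp.single_left_injective hm.ne' (congrArg Subtype.val hab))

variable (f)

include f in
theorem le_abscissa (r : ℕ) (hr : topologicalKrullDim Y = r) :
    (r : ℝ) ≤ LSeries.abscissaOfAbsConv (_root_.Zeta.arithCoeff Y) := by
  classical
  by_contra hlt
  rw [not_le] at hlt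
  obtain ⟨s, hs1, hs2⟩ := EReal.exists_between_coe_real hlt
  have hs2' : s < r := by exact_mod_cast hs2
  obtain ⟨e₁, c, he₁, hc, hpts⟩ := exists_points_ge f r hr
  set q : ℝ := (Nat.card k : ℝ) with hq
  have hq2 : (2 : ℝ) ≤ q := by
    rw [hq]; exact_mod_cast (Finite.one_lt_card : 1 < Nat.card k)
  have hsum : LSeriesSummable (_root_.Zeta.arithCoeff Y) (s : ℂ) :=
    LSeriesSummable_of_abscissaOfAbsConv_lt_re (by simpa using hs1)
  have hnorm : ∀ n : ℕ, n ≠ 0 → ‖LSeries.term (_root_.Zeta.arithCoeff Y) (s : ℂ) n‖ =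
      (_root_.Zeta.cycleNormCount Y n : ℝ) / (n : ℝ) ^ s := fun n hn => by
    rw [LSeries.norm_term_eq, if_neg hn, Complex.ofReal_re, _root_.Zeta.arithCoeff,
      Complex.norm_natCast]
  set C := ∑' n, ‖LSeries.term (_root_.Zeta.arithCoeff Y) (s : ℂ) n‖
  have hC : ∀ n : ℕ, n ≠ 0 → (_root_.Zeta.cycleNormCount Y n : ℝ) ≤ C * (n : ℝ) ^ s := fun n hn => by
    have h := hsum.norm.le_tsum n (fun j _ => norm_nonneg _)
    rw [hnorm n hn, div_le_iff₀ (Real.rpow_pos_of_pos (by exact_mod_cast Nat.pos_of_ne_zero hn) _)] at h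
    exact h
  have hC0 : 0 ≤ C := tsum_nonneg fun _ => norm_nonneg _
  rcases Nat.eq_zero_or_pos r with hr0 | hr0
  · -- dimension zero: a single closed point already prevents convergence for `s < 0`
    subst hr0
    have hs0 : s < 0 := by simpa using hs2'
    have hp : 0 < _root_.Zeta.nPts f (e₁ * 1) := by
      have := lt_of_lt_of_le (by simpa using hc) (hpts 1 one_pos)
      exact_mod_cast this
    obtain ⟨d, hd, hd'⟩ := Finset.exists_ne_zero_of_sum_ne_zero hp.ne'
    have hd0 : 0 < d := Nat.pos_of_mem_divisors hd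
    have hdc : 0 < _root_.Zeta.degCount f d := Nat.pos_of_ne_zero (right_ne_zero_of_mul hd')
    have hb : ∀ m : ℕ, 0 < m → 1 ≤ C * ((q ^ d) ^ s) ^ m := fun m hm => by
      have h1 : (1 : ℝ) ≤ _root_.Zeta.cycleNormCount Y ((Nat.card k ^ d) ^ m) := by
        exact_mod_cast hdc.trans_le (degCount_le_cycleNormCount (f := f) hd0 hm)
      refine h1.trans ((hC _ (pow_pos (pow_pos Nat.card_pos _) _).ne').trans_eq ?_)
      rw [hq]
      push_cast
      rw [← Real.rpow_natCast ((((Nat.card k : ℝ) ^ d) ^ s)) m, ← Real.rpow_mul (by positivity),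
        ← Real.rpow_natCast (((Nat.card k : ℝ) ^ d)) m, ← Real.rpow_mul (by positivity),
        mul_comm s]
    have hρ : (q ^ d) ^ s < 1 :=
      Real.rpow_lt_one_of_one_lt_of_neg (one_lt_pow₀ (by linarith) hd0.ne') hs0
    have hlim := (tendsto_pow_atTop_nhds_zero_of_lt_one (by positivity) hρ).const_mul C
    rw [mul_zero] at hlim
    obtain ⟨M, hM⟩ := Filter.eventually_atTop.1 (hlim.eventually (gt_mem_nhds one_pos))
    exact absurd (hb (M + 1) M.succ_pos) (not_le.2 (hM (M + 1) M.le_succ))
  · set t := max s 0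
    have ht0 : 0 ≤ t := le_max_right _ _
    have htr : t < r := max_lt hs2' (by exact_mod_cast hr0)
    have hN : ∀ e : ℕ, 0 < e → (_root_.Zeta.nPts f e : ℝ) ≤ (e : ℝ) ^ 2 * (C * (q ^ e) ^ t) := by
      intro e he
      rw [_root_.Zeta.nPts, Nat.cast_sum]
      refine (Finset.sum_le_card_nsmul _ _ ((e : ℝ) * (C * (q ^ e) ^ t)) fun d hd => ?_).trans ?_
      · have hd0 := Nat.pos_of_mem_divisors hd
        have hde : d ≤ e := Nat.le_of_dvd he (Nat.dvd_of_mem_divisors hd)
        rw [Nat.cast_mul]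
        refine mul_le_mul (by exact_mod_cast hde) ?_ (Nat.cast_nonneg _) (Nat.cast_nonneg _)
        refine le_trans (Nat.cast_le.2 (degCount_le_cycleNormCount (f := f) hd0 one_pos))
          ((hC _ (pow_pos (pow_pos Nat.card_pos _) _).ne').trans (mul_le_mul_of_nonneg_left ?_ hC0))
        rw [pow_one, Nat.cast_pow, ← hq]
        exact (Real.rpow_le_rpow_of_exponent_le (one_le_pow₀ (by linarith)) (le_max_left _ _)).trans
          (Real.rpow_le_rpow (by positivity) (pow_le_pow_right₀ (by linarith) hde) ht0)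
      · rw [nsmul_eq_mul, sq, mul_assoc]
        exact mul_le_mul_of_nonneg_right (by exact_mod_cast Nat.card_divisors_le_self e)
          (by positivity)
    set ρ : ℝ := q ^ (t - r)
    have hρ0 : 0 < ρ := Real.rpow_pos_of_pos (by linarith) _
    have hρ1 : ρ < 1 := Real.rpow_lt_one_of_one_lt_of_neg (by linarith) (by linarith)
    have hlim := (tendsto_pow_const_mul_const_pow_of_lt_one 2 hρ0.le hρ1).const_mul C
    rw [mul_zero] at hlim
    obtain ⟨M, hM⟩ := Filter.eventually_atTop.1 (hlim.eventually (gt_mem_nhds hc))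
    set e := e₁ * (M + 1)
    have he : 0 < e := Nat.mul_pos he₁ M.succ_pos
    have h1 := (hpts (M + 1) M.succ_pos).trans (hN e he)
    have h2 : M ≤ e := M.le_succ.trans (Nat.le_mul_of_pos_left _ he₁)
    have h3 := hM e h2
    have h4 : (q ^ e) ^ t = ρ ^ e * (q ^ e) ^ r := by
      rw [← Real.rpow_natCast (q ^ e) r, ← Real.rpow_natCast ρ e, ← Real.rpow_natCast q e,
        ← Real.rpow_mul (by positivity), ← Real.rpow_mul (by positivity),
        ← Real.rpow_mul (by positivity), ← Real.rpow_add (by linarith)]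
      ring_nf
    rw [h4] at h1
    have h5 : (0 : ℝ) < (q ^ e) ^ r := by positivity
    nlinarith

end Groth.Agent.Lib.WeakLW.Abscissa
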