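import Groth.Agent.Lib.FunFld.Riemann
import Groth.Agent.Lib.FunFld.Degree
import Groth.Agent.H24.PowerSeries
import Groth.Agent.S11042
import Mathlib.RingTheory.Henselian
import Mathlib.Algebra.Polynomial.Bivariate
import Mathlib.RingTheory.PowerSeries.Inverse
import Mathlib.RingTheory.IntegralClosure.IntegrallyClosed

/-!
A lower bound for the number of rational points of a plane curve `G(t, y) = 0`, monic in `y`,
over a finite field, given one rational point which is simple over the `t`-line.
-/

set_option autoImplicit false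
set_option linter.style.haveILetI false

namespace Groth.Agent.Lib.WeakLW.Curve

open Polynomial IntermediateField Groth.Agent.Lib.FunFld
open scoped Polynomial.Bivariate

universe u v

variable {F : Type u} [Field F]

/-- `F` is algebraically closed in the field of fractions of `F[[u]]`. -/
theorem mem_range_of_isAlgebraic (z : FractionRing (PowerSeries F)) (hz : IsAlgebraic F z) :
    z ∈ Set.range (algebraMap F (FractionRing (PowerSeries F))) := by
  have hz' : IsIntegral (PowerSeries F) z := hz.isIntegral.tower_top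
  obtain ⟨w, rfl⟩ := IsIntegrallyClosed.isIntegral_iff.1 hz'
  have hw : IsIntegral F w :=
    (isIntegral_algebraMap_iff (IsFractionRing.injective _ _)).1 hz.isIntegral
  let cc : PowerSeries F →ₐ[F] F :=
    { PowerSeries.constantCoeff with commutes' := fun c => by simp [PowerSeries.algebraMap_apply] }
  let c : F := PowerSeries.constantCoeff w
  have hv : IsIntegral F (w - algebraMap F _ c) := hw.sub isIntegral_algebraMap
  have h0 : (minpoly F (w - algebraMap F (PowerSeries F) c)).coeff 0 = 0 := by
    have h := congrArg cc (minpoly.aeval F (w - algebraMap F (PowerSeries F) c))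
    rw [← aeval_algHom_apply, map_zero] at h
    have hcc : cc (w - algebraMap F (PowerSeries F) c) = 0 := by
      rw [map_sub, AlgHom.commutes]; exact sub_self _
    rw [hcc, aeval_def, eval₂_at_zero] at h
    simpa using h
  refine ⟨c, ?_⟩
  rw [IsScalarTower.algebraMap_apply F (PowerSeries F), sub_eq_zero.1 ((minpoly.coeff_zero_eq_zero hv).1 h0)]

/-- The function field of the branch through a simple rational point. -/
theorem exists_branch (G : F[X][Y]) (hG : G.Monic) (t₀ y₀ : F) (h0 : G.evalEval t₀ y₀ = 0)
    (h1 : G.derivative.evalEval t₀ y₀ ≠ 0) :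
    ∃ (L : Type u) (_ : Field L) (_ : Algebra F L) (t y : L), _root_.FunFld.IsFunctionField F L ∧
      Transcendental F t ∧ (G.map (Polynomial.aeval t : F[X] →ₐ[F] L).toRingHom).eval y = 0 ∧
      IntermediateField.adjoin F ({t, y} : Set L) = ⊤ := by
  let Φ : F[X] →ₐ[F] PowerSeries F := Polynomial.aeval (PowerSeries.C t₀ + PowerSeries.X)
  have hcc : (PowerSeries.constantCoeff : PowerSeries F →+* F).comp Φ.toRingHom = evalRingHom t₀ :=
    Polynomial.ringHom_ext (fun a => by simp [Φ, PowerSeries.algebraMap_apply])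
      (by simp [Φ])
  let p := G.map Φ.toRingHom
  have hp : ∀ q : F[X][Y], PowerSeries.constantCoeff ((q.map Φ.toRingHom).eval (PowerSeries.C y₀)) =
      q.evalEval t₀ y₀ := fun q => by
    rw [eval_map, hom_eval₂, hcc, PowerSeries.constantCoeff_C, ← eval_map, map_evalRingHom_eval]
  have hmax : ∀ f : PowerSeries F, f ∈ IsLocalRing.maximalIdeal (PowerSeries F) ↔
      PowerSeries.constantCoeff f = 0 := fun f => by
    rw [IsLocalRing.mem_maximalIdeal, mem_nonunits_iff, PowerSeries.isUnit_iff_constantCoeff,
      isUnit_iff_ne_zero, not_not]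
  haveI : IsAdicComplete (IsLocalRing.maximalIdeal (PowerSeries F)) (PowerSeries F) :=
    Groth.Agent.H24.PowerSeries.isAdicComplete F Unit
  obtain ⟨yp, hyp, -⟩ := HenselianRing.is_henselian
    (I := IsLocalRing.maximalIdeal (PowerSeries F)) p (hG.map _) (PowerSeries.C y₀)
    ((hmax _).2 (by rw [hp, h0])) (by
      refine IsUnit.map _ ?_
      rw [PowerSeries.isUnit_iff_constantCoeff, isUnit_iff_ne_zero, derivative_map, hp]
      exact h1)
  let Ω := FractionRing (PowerSeries F)
  let t : Ω := algebraMap (PowerSeries F) Ω (PowerSeries.C t₀ + PowerSeries.X)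
  let y : Ω := algebraMap (PowerSeries F) Ω yp
  have ht : Transcendental F t := by
    intro halg
    obtain ⟨c, hc⟩ := mem_range_of_isAlgebraic t halg
    rw [IsScalarTower.algebraMap_apply F (PowerSeries F)] at hc
    have := congrArg (PowerSeries.coeff 1) (IsFractionRing.injective _ _ hc)
    simp [PowerSeries.algebraMap_apply] at this
  have hy : (G.map (Polynomial.aeval t : F[X] →ₐ[F] Ω).toRingHom).eval y = 0 := by
    have : (Polynomial.aeval t : F[X] →ₐ[F] Ω).toRingHom =
        (algebraMap (PowerSeries F) Ω).comp Φ.toRingHom := by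
      refine Polynomial.ringHom_ext (fun a => ?_) (by simp [Φ, t])
      simp [Φ]
      exact IsScalarTower.algebraMap_apply F (PowerSeries F) Ω a
    rw [this, ← Polynomial.map_map, eval_map, eval₂_at_apply, hyp.eq_zero, map_zero]
  let L := IntermediateField.adjoin F ({t, y} : Set Ω)
  let t' : L := ⟨t, subset_adjoin F _ (by simp)⟩
  let y' : L := ⟨y, subset_adjoin F _ (by simp)⟩
  have htop : IntermediateField.adjoin F ({t', y'} : Set L) = ⊤ := by
    apply IntermediateField.map_injective L.val
    rw [IntermediateField.adjoin_map, ← AlgHom.fieldRange_eq_map, IntermediateField.fieldRange_val,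
      Set.image_pair]
    rfl
  have ht' : Transcendental F t' := fun h => ht (h.algHom L.val)
  have hy' : (G.map (Polynomial.aeval t' : F[X] →ₐ[F] L).toRingHom).eval y' = 0 := by
    apply L.val.injective
    rw [map_zero, ← hy, eval_map, eval_map]
    show L.val.toRingHom (eval₂ _ y' G) = _
    rw [hom_eval₂]
    refine congrArg (fun φ => eval₂ φ y G) (Polynomial.ringHom_ext (fun a => ?_) ?_)
    · simp
    · simp [t']
  refine ⟨L, inferInstance, inferInstance, t', y', ⟨⟨t', ht', ?_⟩, fun z hz => ?_⟩, ht', hy', htop⟩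
  · let E := IntermediateField.adjoin F ({t'} : Set L)
    let ψ : F[X] →+* E := (Polynomial.aeval (⟨t', mem_adjoin_simple_self F t'⟩ : E)).toRingHom
    have hint : IsIntegral E y' := by
      refine ⟨G.map ψ, hG.map _, ?_⟩
      rw [eval₂_map, ← hy', eval_map]
      refine congrArg (fun φ => eval₂ φ y' G) (Polynomial.ringHom_ext (fun a => ?_) ?_)
      · simp [ψ, ← IsScalarTower.algebraMap_apply]
      · simp [ψ]
    have hfd := IntermediateField.adjoin.finiteDimensional hint
    have : IntermediateField.adjoin E ({y'} : Set L) = ⊤ := by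
      apply IntermediateField.restrictScalars_injective F
      rw [IntermediateField.adjoin_simple_adjoin_simple, htop, IntermediateField.restrictScalars_top]
    rw [this] at hfd
    exact IntermediateField.topEquiv.toLinearEquiv.finiteDimensional
  · obtain ⟨c, hc⟩ := mem_range_of_isAlgebraic _ (hz.algHom L.val)
    exact ⟨c, Subtype.ext (by simpa using hc)⟩

section Bounds

variable {L : Type v} [Field L] [Algebra F L] {G : F[X][Y]} {D w : ℕ} {t y : L}

open WithZero

theorem val_y_le (hG : G.Monic) (hw : ∀ i, (G.coeff i).natDegree ≤ w)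
    (hy : (G.map (Polynomial.aeval t : F[X] →ₐ[F] L).toRingHom).eval y = 0)
    (P : _root_.FunFld.Place F L) (b : ℕ) (hb : P.1 t ≤ exp (b : ℤ)) :
    P.1 y ≤ exp ((w * b : ℕ) : ℤ) := by
  by_contra hlt
  rw [not_le] at hlt
  have hy0 : y ≠ 0 := by rintro rfl; simp at hlt
  obtain ⟨a, ha⟩ : ∃ a, P.1 y = exp a := ⟨_, Place.val_eq_exp P hy0⟩
  rw [ha, exp_lt_exp] at hlt
  have hcoef : ∀ i, P.1 (Polynomial.aeval t (G.coeff i)) ≤ exp ((w * b : ℕ) : ℤ) := fun i => by
    rw [aeval_eq_sum_range' (Nat.lt_succ_of_le (hw i))]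
    refine P.1.map_sum_le fun j hj => ?_
    rw [Algebra.smul_def, map_mul, map_pow]
    refine (mul_le_mul' (P.2.1 _) (pow_le_pow_left' hb j)).trans ?_
    rw [one_mul, ← exp_nsmul, exp_le_exp, nsmul_eq_mul]
    push_cast
    exact mul_le_mul_of_nonneg_right (by exact_mod_cast Nat.lt_succ_iff.1 (Finset.mem_range.1 hj))
      (Int.natCast_nonneg b)
  rw [eval_map, eval₂_eq_sum_range, Finset.sum_range_succ, hG.coeff_natDegree, map_one, one_mul] at hy
  have h2 : P.1 (y ^ G.natDegree) < exp (a * G.natDegree) := by
    rw [eq_neg_of_add_eq_zero_right hy, Valuation.map_neg]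
    refine P.1.map_sum_lt (exp_ne_zero) fun i hi => ?_
    rw [map_mul, map_pow, ha]
    refine (mul_le_mul' (hcoef i) le_rfl).trans_lt ?_
    rw [← exp_nsmul, ← exp_add, exp_lt_exp, nsmul_eq_mul]
    have : (i : ℤ) + 1 ≤ G.natDegree := by exact_mod_cast Finset.mem_range.1 hi
    have h3 : (0 : ℤ) < a := lt_of_le_of_lt (Int.natCast_nonneg _) hlt
    nlinarith
  rw [map_pow, ha, ← exp_nsmul, nsmul_eq_mul, mul_comm] at h2
  exact lt_irrefl _ h2

variable (hK : _root_.FunFld.IsFunctionField F L) (ht : Transcendental F t) (hG : G.Monic)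
  (hD : G.natDegree ≤ D) (hw : ∀ i, (G.coeff i).natDegree ≤ w)
  (hy : (G.map (Polynomial.aeval t : F[X] →ₐ[F] L).toRingHom).eval y = 0)
  (htop : IntermediateField.adjoin F ({t, y} : Set L) = ⊤)

include hG hy htop in
theorem finrank_eq :
    Module.finrank (IntermediateField.adjoin F ({t} : Set L)) L =
        (minpoly (IntermediateField.adjoin F ({t} : Set L)) y).natDegree ∧
      (minpoly (IntermediateField.adjoin F ({t} : Set L)) y).natDegree ≤ G.natDegree := by
  let E := IntermediateField.adjoin F ({t} : Set L)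
  let ψ : F[X] →+* E := (Polynomial.aeval (⟨t, mem_adjoin_simple_self F t⟩ : E)).toRingHom
  have hroot : Polynomial.aeval y (G.map ψ) = 0 := by
    rw [aeval_def, eval₂_map, ← hy, eval_map]
    refine congrArg (fun φ => eval₂ φ y G) (Polynomial.ringHom_ext (fun a => ?_) ?_)
    · simp [ψ, ← IsScalarTower.algebraMap_apply]
    · simp [ψ]
  have hint : IsIntegral E y := ⟨G.map ψ, hG.map _, hroot⟩
  have htop' : IntermediateField.adjoin E ({y} : Set L) = ⊤ := by
    apply IntermediateField.restrictScalars_injective F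
    rw [IntermediateField.adjoin_simple_adjoin_simple, htop, IntermediateField.restrictScalars_top]
  refine ⟨?_, ?_⟩
  · rw [← IntermediateField.adjoin.finrank hint, htop', IntermediateField.finrank_top']
  · exact (natDegree_le_of_dvd (minpoly.dvd E y hroot) (hG.map ψ).ne_zero).trans natDegree_map_le

include hK ht hG hD hw hy htop in
theorem genus_le : _root_.FunFld.genus F L ≤ 1 + w * D ^ 2 := by
  classical
  obtain ⟨hn, hnd⟩ := finrank_eq hG hy htop
  obtain ⟨N, hN⟩ := Riemann.exists_bound_delta_eq hK
  set E := IntermediateField.adjoin F ({t} : Set L)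
  set n := Module.finrank E L
  set M := N.toNat
  set m := M + w * n
  let B := Degree.poleDiv (k := F) t
  have hfd := Bound.finiteDimensional_adjoin_transcendental hK ht
  have hn0 : 0 < n := Module.finrank_pos
  have hdeg : ((m : ℤ) • B).deg = (m : ℤ) * n := by
    rw [Degree.deg_smul, Degree.deg_poleDiv hK ht]
  let v : Fin (M + 1) × Fin (minpoly E y).natDegree → L := fun p => t ^ (p.1 : ℕ) * y ^ (p.2 : ℕ)
  have hmem : ∀ p, v p ∈ _root_.FunFld.L ((m : ℤ) • B) := fun p P => by
    rw [Finsupp.smul_apply, Degree.poleDiv_apply hK, smul_eq_mul]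
    set b := (max (-P.ord t) 0).toNat
    have hb : (b : ℤ) = max (-P.ord t) 0 := Int.toNat_of_nonneg (le_max_right _ _)
    have hbt : P.1 t ≤ exp (b : ℤ) := by
      rw [Place.val_eq_exp P (Bound.ne_zero_of_transcendental ht), exp_le_exp, hb]
      exact le_max_left _ _
    rw [← hb, map_mul, map_pow, map_pow]
    refine (mul_le_mul' (pow_le_pow_left' hbt _) (pow_le_pow_left' (val_y_le hG hw hy P b hbt) _)).trans ?_
    rw [← exp_nsmul, ← exp_nsmul, ← exp_add, exp_le_exp, nsmul_eq_mul, nsmul_eq_mul]
    push_cast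
    have h1 : (p.1 : ℤ) ≤ M := by exact_mod_cast Fin.is_le p.1
    have h2 : (p.2 : ℤ) ≤ n := by
      have := p.2.2
      exact_mod_cast (by omega : (p.2 : ℕ) ≤ n)
    have hb0 : (0 : ℤ) ≤ b := Int.natCast_nonneg _
    have hw0 : (0 : ℤ) ≤ w := Int.natCast_nonneg _
    have : (m : ℤ) = M + w * n := by simp [m]
    rw [this]
    nlinarith [mul_nonneg hw0 hb0]
  have hli : LinearIndependent F v := by
    rw [Fintype.linearIndependent_iff]
    intro c hc
    let co : Fin (minpoly E y).natDegree → Polynomial F := fun i =>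
      ∑ j : Fin (M + 1), Polynomial.monomial (j : ℕ) (c (j, i))
    have hsum : ∑ i : Fin (minpoly E y).natDegree, (⟨Polynomial.aeval t (co i),
        algebra_adjoin_le_adjoin F _ (Polynomial.aeval_mem_adjoin_singleton F t)⟩ : E) •
          y ^ (i : ℕ) = 0 := by
      rw [← hc, Fintype.sum_prod_type, Finset.sum_comm]
      refine Finset.sum_congr rfl fun i _ => ?_
      rw [IntermediateField.smul_def, smul_eq_mul]
      simp only [co, map_sum, Finset.sum_mul, Polynomial.aeval_monomial, v, Algebra.smul_def,
        mul_assoc]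
    rintro ⟨j, i⟩
    have h0 : co i = 0 := by
      by_contra h0
      exact ht ⟨co i, h0, congrArg Subtype.val
        (Fintype.linearIndependent_iff.mp (linearIndependent_pow y) _ hsum i)⟩
    have := congrArg (fun p : Polynomial F => p.coeff j) h0
    simpa [co, Polynomial.finsetSum_coeff, Polynomial.coeff_monomial, Fin.val_inj] using this
  have := Degree.finiteDimensional_L hK ((m : ℤ) • B)
  have hell : (M + 1) * n ≤ _root_.FunFld.ell ((m : ℤ) • B) := by
    have h3 : LinearIndependent F (fun p => (⟨v p, hmem p⟩ : _root_.FunFld.L ((m : ℤ) • B))) :=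
      LinearIndependent.of_comp (Submodule.subtype _) hli
    simpa [_root_.FunFld.ell, n, hn] using h3.fintype_card_le_finrank
  have hd := hN ((m : ℤ) • B) (by
    rw [hdeg]
    have : N ≤ M := Int.self_le_toNat N
    have : (1 : ℤ) ≤ n := by exact_mod_cast hn0
    have : (m : ℤ) = M + w * n := by simp [m]
    nlinarith [mul_nonneg (Int.natCast_nonneg w) (Int.natCast_nonneg n)])
  simp only [Riemann.delta] at hd
  rw [hdeg] at hd
  have hnD : (n : ℤ) ≤ D := by exact_mod_cast (hn ▸ hnd.trans hD)
  have : (((M + 1) * n : ℕ) : ℤ) ≤ _root_.FunFld.ell ((m : ℤ) • B) := by exact_mod_cast hell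
  have hmz : (m : ℤ) = M + w * n := by simp [m]
  rw [hmz] at hd this
  push_cast at this
  have : (w : ℤ) * n * n ≤ w * D * D :=
    mul_le_mul (mul_le_mul_of_nonneg_left hnD (Int.natCast_nonneg w)) hnD (Int.natCast_nonneg n)
      (mul_nonneg (Int.natCast_nonneg w) (Int.natCast_nonneg D))
  have : (1 : ℤ) ≤ n := by exact_mod_cast hn0
  have : (_root_.FunFld.genus F L : ℤ) ≤ 1 + w * D ^ 2 := by nlinarith
  exact_mod_cast this

theorem card_support_le {Pl : Finset (_root_.FunFld.Place F L)} {E : _root_.FunFld.Divisor F L}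
    (hK : _root_.FunFld.IsFunctionField F L) (hE : 0 ≤ E) (h : ∀ P ∈ Pl, E P ≠ 0) :
    (Pl.card : ℤ) ≤ E.deg := by
  classical
  have hsub : Pl ⊆ E.support := fun P hP => Finsupp.mem_support_iff.2 (h P hP)
  refine le_trans ?_ (Finset.sum_le_sum_of_subset_of_nonneg hsub fun P _ _ =>
    mul_nonneg (hE P) (Int.natCast_nonneg _))
  rw [Finset.card_eq_sum_ones, Nat.cast_sum]
  refine Finset.sum_le_sum fun P hP => ?_
  have h1 : 1 ≤ E P := lt_of_le_of_ne (hE P) (h P hP).symm
  have h2 : 1 ≤ (P.deg : ℤ) := by exact_mod_cast Existence.deg_pos hK P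
  push_cast
  nlinarith

theorem adjoin_sub (a : F) : IntermediateField.adjoin F ({t - algebraMap F L a} : Set L) =
    IntermediateField.adjoin F ({t} : Set L) := by
  refine le_antisymm (adjoin_simple_le_iff.2 (sub_mem (mem_adjoin_simple_self F t)
    (IntermediateField.algebraMap_mem _ a))) (adjoin_simple_le_iff.2 ?_)
  simpa using add_mem (mem_adjoin_simple_self F (t - algebraMap F L a))
    (IntermediateField.algebraMap_mem (IntermediateField.adjoin F {t - algebraMap F L a}) a)

theorem exists_eq_of_deg_one (P : _root_.FunFld.Place F L) (h : P.deg = 1) (z : P.O) :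
    ∃ a : F, IsLocalRing.residue P.O z = algebraMap F (IsLocalRing.ResidueField P.O) a := by
  have := Subalgebra.bot_eq_top_of_finrank_eq_one h
  obtain ⟨a, ha⟩ := Algebra.mem_bot.1 (this ▸ Algebra.mem_top :
    IsLocalRing.residue P.O z ∈ (⊥ : Subalgebra F (IsLocalRing.ResidueField P.O)))
  exact ⟨a, ha.symm⟩

include hK ht hG hD hw hy htop in
theorem card_deg_one_le [Fintype F] (S : Finset F) :
    Nat.card {P : _root_.FunFld.Place F L // P.deg = 1} ≤
      D * (1 + S.card + Nat.card {p : F × F // p.1 ∉ S ∧ G.evalEval p.1 p.2 = 0}) := by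
  classical
  obtain ⟨hn, hnd⟩ := finrank_eq hG hy htop
  let V : Finset (F × F) := Finset.univ.filter fun p => p.1 ∉ S ∧ G.evalEval p.1 p.2 = 0
  have hV : V.card = Nat.card {p : F × F // p.1 ∉ S ∧ G.evalEval p.1 p.2 = 0} := by
    rw [Nat.card_eq_fintype_card, Fintype.card_subtype]
  let Z : F → Finset (_root_.FunFld.Place F L) := fun a =>
    (Degree.zeroDiv (k := F) (t - algebraMap F L a)).support
  let U := (Degree.poleDiv (k := F) t).support ∪ (S ∪ V.image Prod.fst).biUnion Z
  have hsub : ∀ P : _root_.FunFld.Place F L, P.deg = 1 → P ∈ U := by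
    intro P hP
    by_cases htP : P.1 t ≤ 1
    swap
    · refine Finset.mem_union_left _ (Finsupp.mem_support_iff.2 ?_)
      rw [Degree.poleDiv_apply hK]
      have h := not_le.1 htP
      rw [Place.val_eq_exp P (Bound.ne_zero_of_transcendental ht), ← exp_zero, exp_lt_exp] at h
      rw [max_eq_left (by omega)]
      omega
    refine Finset.mem_union_right _ (Finset.mem_biUnion.2 ?_)
    have hyP : P.1 y ≤ 1 := by
      have := val_y_le hG hw hy P 0 (by simpa using htP)
      simpa using this
    let tO : P.O := ⟨t, htP⟩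
    let yO : P.O := ⟨y, hyP⟩
    obtain ⟨a, ha⟩ := exists_eq_of_deg_one P hP tO
    obtain ⟨b, hb⟩ := exists_eq_of_deg_one P hP yO
    let φ : F[X] →+* P.O := (Polynomial.aeval tO : F[X] →ₐ[F] P.O).toRingHom
    have hφ : P.O.subtype.comp φ = (Polynomial.aeval t : F[X] →ₐ[F] L).toRingHom :=
      Polynomial.ringHom_ext (fun c => by simp [φ]) (by simp [φ, tO])
    have h0 : (G.map φ).eval yO = 0 := by
      apply Subtype.val_injective
      show P.O.subtype ((G.map φ).eval yO) = 0
      rw [eval_map, hom_eval₂, hφ, ← eval_map]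
      exact hy
    have hres : (IsLocalRing.residue P.O).comp φ =
        (algebraMap F (IsLocalRing.ResidueField P.O)).comp (evalRingHom a) :=
      Polynomial.ringHom_ext (fun c => by simp [φ, Place.algebraMap_residue])
        (by simp [φ, ha])
    have hab : G.evalEval a b = 0 := by
      apply (algebraMap F (IsLocalRing.ResidueField P.O)).injective
      rw [map_zero, ← map_zero (IsLocalRing.residue P.O), ← h0, eval_map, hom_eval₂, hres,
        ← map_evalRingHom_eval, eval_map, hom_eval₂, hb]
    refine ⟨a, Finset.mem_union.2 ?_, Finsupp.mem_support_iff.2 ?_⟩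
    · by_cases haS : a ∈ S
      · exact Or.inl haS
      · exact Or.inr (Finset.mem_image.2 ⟨(a, b), Finset.mem_filter.2 ⟨Finset.mem_univ _, haS, hab⟩, rfl⟩)
    · rw [Degree.zeroDiv_apply hK]
      have hne : t - algebraMap F L a ≠ 0 := sub_ne_zero.2 fun h =>
        Bound.not_mem_range_of_transcendental ht ⟨a, h.symm⟩
      have hlt : P.1 (t - algebraMap F L a) < 1 := by
        have h := (Place.res_eq_zero_iff P (tO - algebraMap F P.O a)).1 (by
          rw [map_sub, ha, Place.algebraMap_residue, sub_self])
        simpa [tO] using h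
      rw [Place.val_eq_exp P hne, ← exp_zero, exp_lt_exp] at hlt
      rw [max_eq_left (by omega)]
      omega
  calc Nat.card {P : _root_.FunFld.Place F L // P.deg = 1}
      ≤ Nat.card U := Nat.card_le_card_of_injective (fun P => ⟨P.1, hsub P.1 P.2⟩)
          fun P Q h => Subtype.ext (congrArg (fun x : U => (x : _root_.FunFld.Place F L)) h)
    _ = U.card := Nat.card_eq_finsetCard U
    _ ≤ D + (S ∪ V.image Prod.fst).card * D := by
        refine (Finset.card_union_le _ _).trans (Nat.add_le_add ?_ ?_)
        · have h := card_support_le (E := Degree.poleDiv (k := F) t) hK (negPart_nonneg _)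
            (fun P hP => Finsupp.mem_support_iff.1 hP)
          rw [Degree.deg_poleDiv hK ht] at h
          have : Module.finrank (IntermediateField.adjoin F ({t} : Set L)) L ≤ D := hn ▸ hnd.trans hD
          omega
        · refine Finset.card_biUnion_le_card_mul _ _ _ fun a _ => ?_
          have htr : Transcendental F (t - algebraMap F L a) := fun h =>
            ht (by simpa using h.add (isAlgebraic_algebraMap a))
          have h := card_support_le (E := Degree.zeroDiv (k := F) (t - algebraMap F L a)) hK
            (posPart_nonneg _)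
            (fun P hP => Finsupp.mem_support_iff.1 hP)
          rw [Degree.deg_zeroDiv hK htr, adjoin_sub a] at h
          have : Module.finrank (IntermediateField.adjoin F ({t} : Set L)) L ≤ D := hn ▸ hnd.trans hD
          change (Z a).card ≤ D
          simp only [Z]
          omega
    _ ≤ _ := by
        have h := (Finset.card_union_le S (V.image Prod.fst)).trans
          (Nat.add_le_add_left Finset.card_image_le S.card)
        rw [← hV]
        nlinarith

end Bounds

open WithZero in
/-- A plane curve with a rational point simple over the line has about `q / D` rational points. -/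
theorem card_points_ge [Finite F] {G : F[X][Y]} (hG : G.Monic) {D w : ℕ} (hD : G.natDegree ≤ D)
    (hw : ∀ i, (G.coeff i).natDegree ≤ w) (t₀ y₀ : F) (h0 : G.evalEval t₀ y₀ = 0)
    (h1 : G.derivative.evalEval t₀ y₀ ≠ 0) (S : Finset F) :
    (Nat.card F : ℝ) + 1 - 2 * (1 + w * D ^ 2) * Real.sqrt (Nat.card F) - D * (1 + S.card) ≤
      D * Nat.card {p : F × F // p.1 ∉ S ∧ G.evalEval p.1 p.2 = 0} := by
  haveI := Fintype.ofFinite F
  obtain ⟨L, _, _, t, y, hK, ht, hy, htop⟩ := exists_branch G hG t₀ y₀ h0 h1
  have hN : (Nat.card {P : _root_.FunFld.Place F L // P.deg = 1} : ℝ) ≤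
      D * (1 + S.card + Nat.card {p : F × F // p.1 ∉ S ∧ G.evalEval p.1 p.2 = 0}) := by
    exact_mod_cast card_deg_one_le hK ht hG hD hw hy htop S
  have hW := (abs_le.1 (Groth.Agent.S11042.result F L hK)).1
  have hg : (_root_.FunFld.genus F L : ℝ) ≤ 1 + w * D ^ 2 := by
    exact_mod_cast genus_le hK ht hG hD hw hy htop
  have := mul_le_mul_of_nonneg_right hg (Real.sqrt_nonneg (Nat.card F : ℝ))
  nlinarith

end Groth.Agent.Lib.WeakLW.Curve
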