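import Groth.Agent.Lib.WeakLW.Curve
import Mathlib.FieldTheory.IsAlgClosed.AlgebraicClosure
import Mathlib.FieldTheory.SplittingField.Construction
import Mathlib.Algebra.MvPolynomial.Equiv

/-!
The number of points of a monic separable cover of an open subset of affine `n`-space over large
finite fields is at least a positive multiple of `q ^ n`.
-/

set_option autoImplicit false
set_option linter.style.haveILetI false

namespace Groth.Agent.Lib.WeakLW.Induct

open MvPolynomial

universe u

/-- The number of points `(x, y)` of `g(x, y) = 0`, `h(x) ≠ 0`. -/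
noncomputable def cnt {k : Type u} [CommRing k] {n : ℕ} (g : Polynomial (MvPolynomial (Fin n) k))
    (h : MvPolynomial (Fin n) k) {F : Type u} [Field F] (φ : k →+* F) : ℕ :=
  Nat.card {p : (Fin n → F) × F //
    eval₂Hom φ p.1 h ≠ 0 ∧ g.eval₂ (eval₂Hom φ p.1) p.2 = 0}

theorem exists_large_ext (k : Type u) [Field k] [Finite k] (N : ℕ) :
    ∃ (K : Type u) (_ : Field K) (_ : Finite K) (_ : k →+* K), N ≤ Nat.card K := by
  obtain ⟨s, hs⟩ := Infinite.exists_subset_card_eq (AlgebraicClosure k) N
  let K := IntermediateField.adjoin k (s : Set (AlgebraicClosure k))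
  haveI : FiniteDimensional k K :=
    IntermediateField.finiteDimensional_adjoin fun x _ => Algebra.IsIntegral.isIntegral x
  haveI : Finite K := Module.finite_of_finite k
  refine ⟨K, inferInstance, inferInstance, algebraMap k K, ?_⟩
  rw [← hs, ← Nat.card_eq_finsetCard]
  exact Nat.card_le_card_of_injective (fun x => ⟨x.1, IntermediateField.subset_adjoin k _ x.2⟩)
    fun a b h => Subtype.ext (congrArg (fun z : K => (z : AlgebraicClosure k)) h)

theorem eval₂Hom_cons {k F : Type u} [CommRing k] [CommRing F] {n : ℕ} (φ : k →+* F) (τ : F)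
    (x : Fin n → F) :
    eval₂Hom φ (Fin.cons τ x : Fin (n + 1) → F) =
      (Polynomial.eval₂RingHom (eval₂Hom φ x) τ).comp (finSuccEquiv k n).toRingEquiv.toRingHom := by
  refine MvPolynomial.ringHom_ext (fun r => ?_) (fun i => ?_)
  · simp [finSuccEquiv_apply]
  · refine Fin.cases ?_ (fun j => ?_) i <;> simp [finSuccEquiv_apply]

theorem cnt_pos_zero (k : Type u) [Field k] [Finite k] (g : Polynomial (MvPolynomial (Fin 0) k))
    (h : MvPolynomial (Fin 0) k) (hg : g.Monic) (hD : 0 < g.natDegree) (hh : h ≠ 0) :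
    ∃ (k2 : Type u) (_ : Field k2) (_ : Finite k2) (ι : k →+* k2),
      ∀ (F : Type u) [Field F] [Finite F] (j : k2 →+* F), 1 ≤ cnt g h (j.comp ι) := by
  let g0 := g.map (eval₂Hom (RingHom.id k) (fun i => i.elim0))
  haveI : Finite g0.SplittingField := Module.finite_of_finite k
  have hdeg : g0.degree ≠ 0 := by
    rw [Polynomial.degree_eq_natDegree (hg.map _).ne_zero, hg.natDegree_map]
    simp [hD.ne']
  obtain ⟨y, hy⟩ := (Polynomial.SplittingField.splits g0).exists_eval_eq_zero
    (by rw [Polynomial.degree_map]; exact hdeg)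
  refine ⟨g0.SplittingField, inferInstance, inferInstance, algebraMap k g0.SplittingField,
    fun F _ _ j => ?_⟩
  set φ := j.comp (algebraMap k g0.SplittingField)
  have hx : eval₂Hom φ (fun i : Fin 0 => i.elim0) = φ.comp (eval₂Hom (RingHom.id k) fun i => i.elim0) :=
    MvPolynomial.ringHom_ext (fun r => by simp) (fun i => i.elim0)
  haveI : Nonempty {p : (Fin 0 → F) × F //
      eval₂Hom φ p.1 h ≠ 0 ∧ g.eval₂ (eval₂Hom φ p.1) p.2 = 0} := by
    refine ⟨⟨(fun i => i.elim0, j y), ?_, ?_⟩⟩
    · obtain ⟨r, rfl⟩ := MvPolynomial.C_surjective (Fin 0) h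
      rw [eval₂Hom_C, map_ne_zero]
      exact fun hr => hh (by rw [hr, map_zero])
    · rw [hx, ← Polynomial.eval₂_map]
      show Polynomial.eval₂ (j.comp (algebraMap k g0.SplittingField)) (j y) g0 = 0
      rw [← Polynomial.hom_eval₂, ← Polynomial.eval_map, hy, map_zero]
  exact Nat.card_pos

theorem exists_count_ge (n : ℕ) : ∀ (k : Type u) [Field k] [Finite k]
    (g a b : Polynomial (MvPolynomial (Fin n) k)) (h : MvPolynomial (Fin n) k),
    g.Monic → 0 < g.natDegree → h ≠ 0 → a * g + b * g.derivative = Polynomial.C h →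
    ∃ (k2 : Type u) (_ : Field k2) (_ : Finite k2) (ι : k →+* k2) (c : ℝ), 0 < c ∧
      ∀ (F : Type u) [Field F] [Finite F] (j : k2 →+* F),
        c * (Nat.card F : ℝ) ^ n ≤ cnt g h (j.comp ι) := by
  induction n with
  | zero =>
    intro k _ _ g a b h hg hD hh _
    obtain ⟨k2, _, _, ι, hk2⟩ := cnt_pos_zero k g h hg hD hh
    exact ⟨k2, inferInstance, inferInstance, ι, 1, one_pos, fun F _ _ j => by
      rw [pow_zero, mul_one]; exact_mod_cast hk2 F j⟩
  | succ n ih =>
    intro k _ _ g a b h hg hD hh hab
    classical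
    set e := (finSuccEquiv k n).toRingEquiv.toRingHom
    have heh : e h ≠ 0 := fun h0 => hh ((finSuccEquiv k n).injective (h0.trans (map_zero _).symm))
    -- a value of the first variable
    obtain ⟨i, hi⟩ : ∃ i, (e h).coeff i ≠ 0 := by
      by_contra hall
      exact heh (Polynomial.ext fun i => by simpa using not_exists_not.1 hall i)
    obtain ⟨m, hm⟩ := MvPolynomial.exists_coeff_ne_zero hi
    let Q : Polynomial k :=
      ∑ l ∈ Finset.range ((e h).natDegree + 1), Polynomial.monomial l (coeff m ((e h).coeff l))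
    have hQ : Q ≠ 0 := fun h0 => hm (by
      have hile : i < (e h).natDegree + 1 := Nat.lt_succ_of_le (Polynomial.le_natDegree_of_ne_zero hi)
      have := congrArg (fun q : Polynomial k => q.coeff i) h0
      simpa [Q, Polynomial.finsetSum_coeff, Polynomial.coeff_monomial, hile] using this)
    obtain ⟨τ₀, hτ₀⟩ := Infinite.exists_notMem_finset
      (Q.map (algebraMap k (AlgebraicClosure k))).roots.toFinset
    let k1 := IntermediateField.adjoin k ({τ₀} : Set (AlgebraicClosure k))
    haveI : FiniteDimensional k k1 :=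
      IntermediateField.adjoin.finiteDimensional (Algebra.IsIntegral.isIntegral τ₀)
    haveI : Finite k1 := Module.finite_of_finite k
    let τ : k1 := ⟨τ₀, IntermediateField.mem_adjoin_simple_self k τ₀⟩
    let incl : k →+* k1 := algebraMap k k1
    let s : MvPolynomial (Fin (n + 1)) k →+* MvPolynomial (Fin n) k1 :=
      (Polynomial.eval₂RingHom (MvPolynomial.map incl) (C τ)).comp e
    have hsh : s h ≠ 0 := fun h0 => hτ₀ (by
      rw [Multiset.mem_toFinset, Polynomial.mem_roots (Polynomial.map_ne_zero hQ), Polynomial.IsRoot]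
      have h1 := congrArg (fun q => algebraMap k1 (AlgebraicClosure k) (coeff m q)) h0
      simp only [map_zero, coeff_zero, s, RingHom.comp_apply, Polynomial.coe_eval₂RingHom,
        Polynomial.eval₂_eq_sum_range, coeff_sum, map_sum] at h1
      rw [Polynomial.eval_map]
      simp only [Q, Polynomial.eval₂_finsetSum, Polynomial.eval₂_monomial]
      refine Eq.trans (Finset.sum_congr rfl fun l _ => ?_) h1
      rw [← map_pow C, mul_comm (MvPolynomial.map incl _), coeff_C_mul, coeff_map, map_mul, map_pow,
        mul_comm]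
      rfl)
    obtain ⟨k2, _, _, ι₁, c, hc, hk2⟩ := ih k1 (g.map s) (a.map s) (b.map s) (s h) (hg.map s)
      (by rwa [hg.natDegree_map]) hsh (by
        rw [Polynomial.derivative_map, ← Polynomial.map_mul, ← Polynomial.map_mul,
          ← Polynomial.map_add, hab, Polynomial.map_C])
    -- bounds
    set D := g.natDegree
    let w := (Finset.range (D + 1)).sup fun l => (e (g.coeff l)).natDegree
    let dh := (e h).natDegree
    let R : ℕ := 4 * (1 + w * D ^ 2) + 2 * D * (1 + dh)
    obtain ⟨k3, _, _, ι₂, hk3⟩ := exists_large_ext k2 (R ^ 2)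
    refine ⟨k3, inferInstance, inferInstance, ι₂.comp (ι₁.comp incl), c / (2 * D ^ 2),
      by positivity, fun F _ _ j => ?_⟩
    haveI := Fintype.ofFinite F
    set φ₁ := (j.comp ι₂).comp ι₁
    set φ := φ₁.comp incl
    have hφ : j.comp (ι₂.comp (ι₁.comp incl)) = φ := rfl
    set τF := φ₁ τ
    rw [hφ]
    have hs : ∀ x : Fin n → F, (eval₂Hom φ₁ x).comp s = eval₂Hom φ (Fin.cons τF x : Fin (n + 1) → F) := by
      intro x
      rw [eval₂Hom_cons, ← RingHom.comp_assoc]
      refine congrArg (fun f => RingHom.comp f e) (Polynomial.ringHom_ext (fun q => ?_) ?_)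
      · simp only [RingHom.comp_apply, Polynomial.coe_eval₂RingHom, Polynomial.eval₂_C]
        rw [coe_eval₂Hom, eval₂_map]
        rfl
      · simp [τF]
    let W := Finset.univ.filter fun p : (Fin n → F) × F =>
      eval₂Hom φ₁ p.1 (s h) ≠ 0 ∧ (g.map s).eval₂ (eval₂Hom φ₁ p.1) p.2 = 0
    have hW : c * (Nat.card F : ℝ) ^ n ≤ W.card := by
      refine (hk2 F (j.comp ι₂)).trans_eq ?_
      rw [cnt, Nat.card_eq_fintype_card, Fintype.card_subtype]
    let T := W.image Prod.fst
    have hWT : W.card ≤ T.card * D := by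
      rw [mul_comm]
      refine Finset.card_le_mul_card_image (f := Prod.fst) W D fun x _ => ?_
      have hne : (g.map s).map (eval₂Hom φ₁ x) ≠ 0 := ((hg.map s).map _).ne_zero
      refine le_trans (Finset.card_le_card_of_injOn
          (t := ((g.map s).map (eval₂Hom φ₁ x)).roots.toFinset) Prod.snd (fun p hp => ?_) ?_)
        ((Multiset.toFinset_card_le _).trans ((Polynomial.card_roots' _).trans
          (Polynomial.natDegree_map_le.trans (hg.natDegree_map s).le)))
      · rw [Finset.mem_coe, Finset.mem_filter] at hp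
        obtain ⟨hp, rfl⟩ := hp
        rw [Finset.mem_coe, Multiset.mem_toFinset, Polynomial.mem_roots hne, Polynomial.IsRoot,
          Polynomial.eval_map]
        exact (Finset.mem_filter.1 hp).2.2
      · intro p hp q hq hpq
        rw [Finset.mem_coe, Finset.mem_filter] at hp hq
        exact Prod.ext (hp.2.trans hq.2.symm) hpq
    -- points on each fibre
    let ψ : (Fin n → F) → (MvPolynomial (Fin (n + 1)) k →+* Polynomial F) := fun x =>
      (Polynomial.mapRingHom (eval₂Hom φ x)).comp e
    have hψ : ∀ (x : Fin n → F) (t : F), (Polynomial.evalRingHom t).comp (ψ x) =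
        eval₂Hom φ (Fin.cons t x : Fin (n + 1) → F) := fun x t => by
      rw [eval₂Hom_cons]
      refine RingHom.ext fun q => ?_
      simp only [ψ, RingHom.comp_apply, Polynomial.coe_evalRingHom, Polynomial.coe_mapRingHom,
        Polynomial.coe_eval₂RingHom, Polynomial.eval_map]
      rfl
    have hev : ∀ (x : Fin n → F) (q : Polynomial (MvPolynomial (Fin (n + 1)) k)) (t y : F),
        (q.map (ψ x)).evalEval t y = q.eval₂ (eval₂Hom φ (Fin.cons t x : Fin (n + 1) → F)) y :=
      fun x q t y => by
        rw [← Polynomial.map_evalRingHom_eval, Polynomial.map_map, hψ, Polynomial.eval_map]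
    let Pts : (Fin n → F) → Finset (F × F) := fun x => Finset.univ.filter fun p =>
      eval₂Hom φ (Fin.cons p.1 x : Fin (n + 1) → F) h ≠ 0 ∧
        g.eval₂ (eval₂Hom φ (Fin.cons p.1 x : Fin (n + 1) → F)) p.2 = 0
    have hfib : ∀ x ∈ T, (Nat.card F : ℝ) ≤ 2 * D * (Pts x).card := by
      intro x hx
      obtain ⟨⟨x', y⟩, hp, rfl⟩ := Finset.mem_image.1 hx
      obtain ⟨-, hp1, hp2⟩ := Finset.mem_filter.1 hp
      simp only at hp1 hp2 ⊢
      rw [Polynomial.eval₂_map] at hp2
      rw [← RingHom.comp_apply, hs] at hp1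
      rw [hs] at hp2
      have hd : g.derivative.eval₂ (eval₂Hom φ (Fin.cons τF x' : Fin (n + 1) → F)) y ≠ 0 := fun h0 => by
        have := congrArg (fun q => Polynomial.eval₂ (eval₂Hom φ (Fin.cons τF x' : Fin (n + 1) → F)) y q) hab
        simp only [Polynomial.eval₂_add, Polynomial.eval₂_mul, hp2, h0, mul_zero, add_zero,
          Polynomial.eval₂_C] at this
        exact hp1 this.symm
      have hψh : ψ x' h ≠ 0 := fun h0 => hp1 (by
        rw [← hψ, RingHom.comp_apply, h0, map_zero])
      have hb := Curve.card_points_ge (hg.map (ψ x')) (D := D) (w := w)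
        Polynomial.natDegree_map_le (fun l => by
          rw [Polynomial.coeff_map]
          by_cases hl : l ≤ D
          · exact Polynomial.natDegree_map_le.trans (Finset.le_sup
              (f := fun l => (e (g.coeff l)).natDegree) (Finset.mem_range.2 (Nat.lt_succ_of_le hl)))
          · rw [Polynomial.coeff_eq_zero_of_natDegree_lt (not_le.1 hl), map_zero,
              Polynomial.natDegree_zero]
            exact Nat.zero_le _)
        τF y (by rw [hev]; exact hp2) (by rw [Polynomial.derivative_map, hev]; exact hd)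
        (ψ x' h).roots.toFinset
      have hS : (ψ x' h).roots.toFinset.card ≤ dh :=
        (Multiset.toFinset_card_le _).trans ((Polynomial.card_roots' _).trans Polynomial.natDegree_map_le)
      have hP : Nat.card {p : F × F // p.1 ∉ (ψ x' h).roots.toFinset ∧
          (g.map (ψ x')).evalEval p.1 p.2 = 0} = (Pts x').card := by
        rw [Nat.card_eq_fintype_card, Fintype.card_subtype]
        refine congrArg Finset.card (Finset.filter_congr fun p _ => ?_)
        rw [Multiset.mem_toFinset, Polynomial.mem_roots hψh, Polynomial.IsRoot, hev,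
          ← Polynomial.coe_evalRingHom, ← RingHom.comp_apply, hψ]
      rw [hP] at hb
      have hQR : (R : ℝ) ≤ Real.sqrt (Nat.card F) := by
        refine Real.le_sqrt_of_sq_le ?_
        exact_mod_cast hk3.trans (Nat.card_le_card_of_injective j j.injective)
      have hsq : Real.sqrt (Nat.card F) * Real.sqrt (Nat.card F) = (Nat.card F : ℝ) :=
        Real.mul_self_sqrt (Nat.cast_nonneg _)
      have hs1 : (1 : ℝ) ≤ Real.sqrt (Nat.card F) := by
        refine Real.one_le_sqrt.2 ?_
        exact_mod_cast Finite.one_lt_card.le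
      have hSr : ((ψ x' h).roots.toFinset.card : ℝ) ≤ dh := by exact_mod_cast hS
      have hRr : (R : ℝ) = 4 * (1 + w * D ^ 2) + 2 * D * (1 + dh) := by simp [R]
      have hDr : (0 : ℝ) ≤ D := Nat.cast_nonneg _
      have e1 := mul_le_mul_of_nonneg_left hQR (Real.sqrt_nonneg (Nat.card F : ℝ))
      have e2 : (D : ℝ) * (1 + ((ψ x' h).roots.toFinset.card : ℝ)) ≤
          D * (1 + dh) * Real.sqrt (Nat.card F) := by
        refine le_trans ?_ (le_mul_of_one_le_right (by positivity) hs1)
        exact mul_le_mul_of_nonneg_left (by linarith) hDr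
      rw [hsq, hRr] at e1
      nlinarith
    have hsig : (T.sigma Pts).card ≤ cnt g h φ := by
      rw [cnt, ← Nat.card_eq_finsetCard]
      refine Nat.card_le_card_of_injective (fun z => ⟨((Fin.cons z.1.2.1 z.1.1 : Fin (n + 1) → F), z.1.2.2),
        (Finset.mem_filter.1 (Finset.mem_sigma.1 z.2).2).2⟩) ?_
      rintro ⟨⟨x, t, y⟩, hz⟩ ⟨⟨x', t', y'⟩, hz'⟩ heq
      obtain ⟨h1, h2⟩ := Prod.ext_iff.1 (congrArg Subtype.val heq)
      have h1' : (Fin.cons t x : Fin (n + 1) → F) = Fin.cons t' x' := h1
      obtain ⟨h3, h4⟩ := Fin.cons_inj.1 h1'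
      simp only at h2 h3 h4
      subst h2; subst h3; subst h4; rfl
    have hTsum : (T.card : ℝ) * Nat.card F ≤ 2 * D * (cnt g h φ : ℕ) := by
      refine le_trans ?_ (mul_le_mul_of_nonneg_left (Nat.cast_le.2 hsig) (by positivity))
      rw [Finset.card_sigma, Nat.cast_sum, Finset.mul_sum, ← nsmul_eq_mul]
      exact Finset.card_nsmul_le_sum _ _ _ hfib
    have hWT' : (W.card : ℝ) ≤ T.card * D := by exact_mod_cast hWT
    have hDpos : (0 : ℝ) < D := by exact_mod_cast hD
    rw [div_mul_eq_mul_div, div_le_iff₀ (by positivity), pow_succ]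
    have h5 := mul_le_mul_of_nonneg_right (hW.trans hWT') (Nat.cast_nonneg (α := ℝ) (Nat.card F))
    have h6 := mul_le_mul_of_nonneg_left hTsum hDpos.le
    nlinarith

end Groth.Agent.Lib.WeakLW.Induct
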