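import Groth.Agent.Lib.Dim.Basic
import Mathlib.RingTheory.Ideal.KrullsHeightTheorem
import Mathlib.RingTheory.AlgebraicIndependent.AlgebraicClosure
import Mathlib.RingTheory.Jacobson.Ring
import Mathlib.Algebra.Field.ZMod
import Mathlib.Algebra.Algebra.Rat
import Mathlib.Algebra.CharP.Algebra
import Mathlib.RingTheory.Algebraic.Basic
import Groth.Agent.Lib.Zeta.ArithScheme

/-!
The dimension of a domain of finite type over `ℤ` of characteristic zero is at most one more than its
transcendence degree over `ℚ`.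
-/

set_option autoImplicit false
set_option linter.style.haveILetI false

namespace Groth.Agent.Lib.WeakLW.IntDim

universe u

open MvPolynomial

theorem algebraicIndependent_lift {A : Type u} [CommRing A] [IsDomain A] [CharZero A] {B : Type u}
    [CommRing B] (π : A →+* B) (ℓ : ℕ) [Fact ℓ.Prime] [Algebra (ZMod ℓ) B] {ι : Type*} (x : ι → B)
    (hx : AlgebraicIndependent (ZMod ℓ) x) (y : ι → A) (hy : ∀ i, π (y i) = x i) :
    AlgebraicIndependent ℤ y := by
  rw [algebraicIndependent_iff]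
  intro p hp
  by_contra hne
  obtain ⟨m, hm⟩ := MvPolynomial.exists_coeff_ne_zero hne
  have key : ∀ (N : ℕ) (q : MvPolynomial ι ℤ), (coeff m q).natAbs ≤ N → aeval y q = 0 → coeff m q = 0 := by
    intro N
    induction N using Nat.strong_induction_on with
    | h N ih =>
      intro q hN hq
      by_contra hc
      have hmap : aeval x (MvPolynomial.map (Int.castRingHom (ZMod ℓ)) q) = π (aeval y q) := by
        have h := RingHom.congr_fun (show (aeval x : MvPolynomial ι (ZMod ℓ) →ₐ[ZMod ℓ] B).toRingHom.comp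
            (MvPolynomial.map (Int.castRingHom (ZMod ℓ))) =
            π.comp (aeval y : MvPolynomial ι ℤ →ₐ[ℤ] A).toRingHom from
          MvPolynomial.ringHom_ext (fun r => by simp) (fun i => by simp [hy])) q
        simpa using h
      rw [hq, map_zero] at hmap
      have h0 := hx.eq_zero_of_aeval_eq_zero _ hmap
      have hdvd : ∀ d, (ℓ : ℤ) ∣ coeff d q := fun d => by
        rw [← ZMod.intCast_zmod_eq_zero_iff_dvd]
        simpa [coeff_map] using congrArg (coeff d) h0
      obtain ⟨q', hq'⟩ := (C_dvd_iff_dvd_coeff _ q).2 hdvd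
      have hq0 : aeval y q' = 0 := by
        rw [hq', map_mul] at hq
        refine (mul_eq_zero.1 hq).resolve_left ?_
        simp [(Fact.out : ℓ.Prime).ne_zero]
      have hcm : coeff m q = (ℓ : ℤ) * coeff m q' := by rw [hq', coeff_C_mul]
      have hlt : (coeff m q').natAbs < (coeff m q).natAbs := by
        rw [hcm, Int.natAbs_mul, Int.natAbs_natCast]
        refine lt_mul_of_one_lt_left (Int.natAbs_pos.2 fun h => hc (by rw [hcm, h, mul_zero]))
          (Fact.out : ℓ.Prime).one_lt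
      exact hc (by rw [hcm, ih _ (hlt.trans_le hN) q' le_rfl hq0, mul_zero])
  exact hm (key _ p le_rfl hp)

variable (A : Type u) [CommRing A] [IsDomain A] [CharZero A] [Algebra.FiniteType ℤ A]
  (K : Type u) [Field K] [CharZero K] [Algebra A K] [IsFractionRing A K]

include K in
theorem ringKrullDim_le (s : ℕ) (hs : Algebra.trdeg ℚ K = s) :
    ringKrullDim A ≤ ((s + 1 : ℕ) : WithBot ℕ∞) := by
  haveI := Zeta.ArithScheme.isJacobsonRing_int
  haveI : IsNoetherianRing A := Algebra.FiniteType.isNoetherianRing ℤ A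
  rw [ringKrullDim_le_iff_isMaximal_height_le]
  intro m hm
  letI : Field (A ⧸ m) := Ideal.Quotient.field m
  haveI : Algebra.FiniteType ℤ (A ⧸ m) :=
    (inferInstance : Algebra.FiniteType ℤ A).of_surjective (Ideal.Quotient.mkₐ ℤ m) (Ideal.Quotient.mkₐ_surjective ℤ m)
  haveI : Module.Finite ℤ (A ⧸ m) := finite_of_finite_type_of_isJacobsonRing ℤ (A ⧸ m)
  obtain ⟨ℓ, hℓ⟩ := CharP.exists (A ⧸ m)
  have hprime : ℓ.Prime := by
    refine (CharP.char_is_prime_or_zero (A ⧸ m) ℓ).resolve_right fun h0 => ?_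
    subst h0
    haveI := CharP.charP_to_charZero (A ⧸ m)
    exact absurd (isField_of_isIntegral_of_isField (R := ℤ) (S := A ⧸ m)
      Int.cast_injective (Field.toIsField _)) Int.not_isField
  haveI : Fact ℓ.Prime := ⟨hprime⟩
  have hmem : (ℓ : A) ∈ m := by
    rw [← Ideal.Quotient.eq_zero_iff_mem, map_natCast]
    exact CharP.cast_eq_zero _ ℓ
  refine (Ideal.height_le_ringKrullDim_quotient_add_one hmem).trans ?_
  rw [Nat.cast_add, Nat.cast_one]
  refine add_le_add ?_ le_rfl
  rw [ringKrullDim_quotient]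
  refine iSup_le fun l => ?_
  set P := l.head.1
  haveI := P.2
  have hℓP : (ℓ : A) ∈ P.asIdeal :=
    (PrimeSpectrum.mem_zeroLocus _ _).1 l.head.2 (Ideal.mem_span_singleton_self _)
  haveI : CharP (A ⧸ P.asIdeal) ℓ := (CharP.charP_iff_prime_eq_zero hprime).2 (by
    rw [← map_natCast (Ideal.Quotient.mk P.asIdeal), Ideal.Quotient.eq_zero_iff_mem]
    exact hℓP)
  letI : Algebra (ZMod ℓ) (A ⧸ P.asIdeal) := ZMod.algebra _ ℓ
  haveI : IsScalarTower ℤ (ZMod ℓ) (A ⧸ P.asIdeal) := IsScalarTower.of_algebraMap_eq' (RingHom.ext_int _ _)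
  haveI : Algebra.FiniteType ℤ (A ⧸ P.asIdeal) :=
    (inferInstance : Algebra.FiniteType ℤ A).of_surjective (Ideal.Quotient.mkₐ ℤ P.asIdeal) (Ideal.Quotient.mkₐ_surjective ℤ _)
  haveI : Algebra.FiniteType (ZMod ℓ) (A ⧸ P.asIdeal) :=
    Algebra.FiniteType.of_restrictScalars_finiteType ℤ (ZMod ℓ) _
  have hlen : ((l.length : ℕ∞) : WithBot ℕ∞) ≤ ringKrullDim (A ⧸ P.asIdeal) := by
    rw [ringKrullDim_quotient]
    exact le_iSup (fun p : LTSeries (PrimeSpectrum.zeroLocus (R := A) P.asIdeal) =>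
        ((p.length : ℕ∞) : WithBot ℕ∞))
      (LTSeries.mk l.length (fun i => ⟨(l i).1, (PrimeSpectrum.mem_zeroLocus _ _).2 (l.head_le i)⟩)
        fun i j hij => l.strictMono hij)
  refine hlen.trans ?_
  rw [Dim.Basic.ringKrullDim_eq_trdegNat (ZMod ℓ)]
  obtain ⟨ι, x, hx⟩ := exists_isTranscendenceBasis' (ZMod ℓ) (A ⧸ P.asIdeal)
  choose y hy using fun i => Ideal.Quotient.mk_surjective (x i)
  have hy' : AlgebraicIndependent ℤ y :=
    algebraicIndependent_lift (Ideal.Quotient.mk P.asIdeal) ℓ x hx.1 y hy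
  haveI : IsScalarTower ℤ ℚ K := IsScalarTower.of_algebraMap_eq' (RingHom.ext_int _ _)
  have hyK : AlgebraicIndependent ℤ (fun i => algebraMap A K (y i)) :=
    hy'.map' (f := (algebraMap A K).toIntAlgHom) (IsFractionRing.injective A K)
  haveI : Algebra.IsAlgebraic ℤ ℚ := IsLocalization.isAlgebraic ℚ (nonZeroDivisors ℤ)
  have h1 := (hyK.extendScalars ℚ).cardinalMk_le_trdeg
  rw [hs] at h1
  have h2 := hx.cardinalMk_eq_trdeg
  rw [Dim.Basic.trdeg_eq_trdegNat (ZMod ℓ) (A ⧸ P.asIdeal)] at h2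
  rw [h2] at h1
  exact_mod_cast h1

end Groth.Agent.Lib.WeakLW.IntDim
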