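import Groth.Agent.Lib.Zeta.EulerProd
import Mathlib.NumberTheory.NumberField.Ideal.Asymptotics
import Mathlib.NumberTheory.NumberField.Basic
import Mathlib.NumberTheory.NumberField.DedekindZeta
import Mathlib.FieldTheory.SplittingField.Construction
import Mathlib.RingTheory.Ideal.Norm.AbsNorm
import Mathlib.RingTheory.RamificationInertia.Inertia
import Mathlib.Analysis.PSeries
import Mathlib.Analysis.SpecialFunctions.Pow.Asymptotics
import Mathlib.RingTheory.Ideal.Int

/-!
A monic integer polynomial has a root modulo many primes.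
-/

set_option autoImplicit false
set_option linter.style.haveILetI false

namespace Groth.Agent.Lib.WeakLW.IntBase

open Filter Topology NumberField UniqueFactorizationMonoid

/-- The primes modulo which `g` has a root. -/
def rootPrimes (g : Polynomial ℤ) : Set ℕ :=
  {ℓ | ℓ.Prime ∧ ∃ y : ZMod ℓ, g.eval₂ (Int.castRingHom (ZMod ℓ)) y = 0}

theorem not_summable_rootPrimes (g : Polynomial ℤ) (hg : g.Monic) (hd : 0 < g.natDegree) (t : ℝ)
    (ht : t < 1) : ¬ Summable ((rootPrimes g).indicator fun n : ℕ => (n : ℝ) ^ (-t)) := by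
  classical
  intro hsum
  set S := rootPrimes g
  set gQ := g.map (Int.castRingHom ℚ)
  let K := gQ.SplittingField
  haveI : CharZero K := charZero_of_injective_algebraMap (algebraMap ℚ K).injective
  haveI : NumberField K := { to_charZero := inferInstance, to_finiteDimensional := inferInstance }
  have hdeg : gQ.degree ≠ 0 := by
    rw [Polynomial.degree_eq_natDegree (hg.map _).ne_zero, hg.natDegree_map]
    simp [hd.ne']
  obtain ⟨θK, hθK⟩ := (Polynomial.SplittingField.splits gQ).exists_eval_eq_zero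
    (by rw [Polynomial.degree_map]; exact hdeg)
  have hθ0 : g.eval₂ (algebraMap ℤ K) θK = 0 := by
    rw [Polynomial.eval_map, Polynomial.eval₂_map] at hθK
    rwa [RingHom.ext_int (algebraMap ℤ K) ((algebraMap ℚ K).comp (Int.castRingHom ℚ))]
  let θ : 𝓞 K := ⟨θK, ⟨g, hg, hθ0⟩⟩
  have hθ : g.eval₂ (algebraMap ℤ (𝓞 K)) θ = 0 := by
    apply RingOfIntegers.coe_injective
    rw [map_zero, Polynomial.hom_eval₂, RingHom.ext_int ((algebraMap (𝓞 K) K).comp _) (algebraMap ℤ K)]
    exact hθ0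
  set d := Module.finrank ℤ (𝓞 K)
  let Pr := {P : Ideal (𝓞 K) // Prime P}
  let pr : Pr → ℕ := fun P => Ideal.absNorm (P.1.under ℤ)
  have hPr : ∀ P : Pr, (pr P).Prime ∧ P.1 ∣ Ideal.span {((pr P : ℕ) : 𝓞 K)} ∧
      ∃ f : ℕ, 0 < f ∧ Ideal.absNorm P.1 = pr P ^ f := fun P => by
    haveI : P.1.IsPrime := Ideal.isPrime_of_prime P.2
    have hne : P.1 ≠ ⊥ := P.2.ne_zero
    haveI : NeZero P.1 := ⟨hne⟩
    have hp : (pr P).Prime := Nat.absNorm_under_prime P.1
    have hmem : ((pr P : ℕ) : 𝓞 K) ∈ P.1 := by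
      have h := Ideal.absNorm_mem (P.1.under ℤ)
      rw [Ideal.mem_comap, map_natCast] at h
      exact h
    refine ⟨hp, Ideal.dvd_iff_le.2 ((Ideal.span_singleton_le_iff_mem _).2 hmem), ?_⟩
    obtain ⟨f, -, hf⟩ := (Nat.dvd_prime_pow hp).1 (show Ideal.absNorm P.1 ∣ pr P ^ d by
      have h := map_dvd Ideal.absNorm (Ideal.dvd_iff_le.2 ((Ideal.span_singleton_le_iff_mem _).2 hmem))
      rw [Ideal.absNorm_span_singleton, show ((pr P : ℕ) : 𝓞 K) = algebraMap ℤ (𝓞 K) (pr P) by simp,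
        Algebra.norm_algebraMap, Int.natAbs_pow, Int.natAbs_natCast] at h
      exact h)
    refine ⟨f, Nat.pos_of_ne_zero fun h0 => ?_, hf⟩
    rw [h0, pow_zero] at hf
    exact Ideal.IsPrime.ne_top inferInstance (Ideal.absNorm_eq_one_iff.1 hf)
  have hdeg1 : ∀ P : Pr, Ideal.absNorm P.1 = pr P → pr P ∈ S := fun P hP => by
    refine ⟨(hPr P).1, ?_⟩
    haveI : Fact (pr P).Prime := ⟨(hPr P).1⟩
    haveI : P.1.IsPrime := Ideal.isPrime_of_prime P.2
    have hcard : Nat.card (𝓞 K ⧸ P.1) = pr P := by rw [← hP, Ideal.absNorm_apply]; rfl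
    haveI : Finite (𝓞 K ⧸ P.1) := Nat.finite_of_card_ne_zero (by rw [hcard]; exact (hPr P).1.ne_zero)
    haveI : CharP (𝓞 K ⧸ P.1) (pr P) := by
      refine (CharP.charP_iff_prime_eq_zero (hPr P).1).2 ?_
      rw [← map_natCast (Ideal.Quotient.mk P.1)]
      exact Ideal.Quotient.eq_zero_iff_mem.2 (Ideal.dvd_span_singleton.1 (hPr P).2.1)
    let χ := ZMod.castHom (dvd_refl (pr P)) (𝓞 K ⧸ P.1)
    have hχ : Function.Bijective χ :=
      (Nat.bijective_iff_injective_and_card _).2 ⟨χ.injective, by rw [Nat.card_zmod, hcard]⟩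
    obtain ⟨y, hy⟩ := hχ.2 (Ideal.Quotient.mk P.1 θ)
    refine ⟨y, hχ.1 ?_⟩
    rw [map_zero, Polynomial.hom_eval₂, hy,
      RingHom.ext_int (χ.comp (Int.castRingHom (ZMod (pr P)))) ((Ideal.Quotient.mk P.1).comp (algebraMap ℤ (𝓞 K))),
      ← Polynomial.hom_eval₂, hθ, map_zero]
  -- the exponent
  set u := max t (3 / 4)
  have hu : u < 1 := max_lt ht (by norm_num)
  have hu0 : 0 < u := lt_of_lt_of_le (by norm_num) (le_max_right _ _)
  have hu2 : -(2 * u) < -1 := by
    have := le_max_right t (3 / 4 : ℝ)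
    linarith
  let b : ℕ → ℝ := fun n => S.indicator (fun n : ℕ => (n : ℝ) ^ (-t)) n + (n : ℝ) ^ (-(2 * u))
  have hb0 : ∀ n, 0 ≤ b n := fun n =>
    add_nonneg (Set.indicator_nonneg (fun m _ => by positivity) n) (by positivity)
  have hb : Summable b := hsum.add (Real.summable_nat_rpow.2 hu2)
  have hPb : ∀ P : Pr, (Ideal.absNorm P.1 : ℝ) ^ (-u) ≤ b (pr P) := fun P => by
    obtain ⟨hp, -, f, hf, hN⟩ := hPr P
    have h1 : (1 : ℝ) ≤ pr P := by exact_mod_cast hp.one_lt.le
    rcases (Nat.one_le_iff_ne_zero.2 hf.ne').lt_or_eq with hf2 | hf1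
    · refine le_trans ?_ (le_add_of_nonneg_left (Set.indicator_nonneg (fun m _ => by positivity) _))
      rw [hN, Nat.cast_pow, ← Real.rpow_natCast, ← Real.rpow_mul (by linarith)]
      refine Real.rpow_le_rpow_of_exponent_le h1 ?_
      have : (2 : ℝ) ≤ f := by exact_mod_cast hf2
      nlinarith
    · rw [← hf1, pow_one] at hN
      refine le_trans ?_ (le_add_of_nonneg_right (by positivity))
      rw [Set.indicator_of_mem (hdeg1 P hN), hN]
      exact Real.rpow_le_rpow_of_exponent_le h1 (neg_le_neg (le_max_left _ _))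
  have hfib : ∀ (T : Finset Pr) (ℓ : ℕ), (T.filter fun P => pr P = ℓ).card ≤ d := fun T ℓ => by
    rcases Finset.eq_empty_or_nonempty (T.filter fun P => pr P = ℓ) with h | ⟨P₀, hP₀⟩
    · simp [h]
    have hℓ : ℓ.Prime := (Finset.mem_filter.1 hP₀).2 ▸ (hPr P₀).1
    have hdvd : (∏ P ∈ (T.filter fun P => pr P = ℓ).map (Function.Embedding.subtype _), P) ∣
        Ideal.span {(ℓ : 𝓞 K)} := by
      refine Finset.prod_primes_dvd _ (fun P hP => ?_) (fun P hP => ?_)
      · obtain ⟨Q, -, rfl⟩ := Finset.mem_map.1 hP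
        exact Q.2
      · obtain ⟨Q, hQ, rfl⟩ := Finset.mem_map.1 hP
        rw [← (Finset.mem_filter.1 hQ).2]
        exact (hPr Q).2.1
    have h := map_dvd Ideal.absNorm hdvd
    rw [Finset.prod_map, map_prod, Ideal.absNorm_span_singleton,
      show (ℓ : 𝓞 K) = algebraMap ℤ (𝓞 K) ℓ by simp,
      Algebra.norm_algebraMap, Int.natAbs_pow, Int.natAbs_natCast] at h
    have h2 : ℓ ^ (T.filter fun P => pr P = ℓ).card ≤
        ∏ P ∈ T.filter fun P => pr P = ℓ, Ideal.absNorm P.1 := by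
      refine Finset.pow_card_le_prod _ _ _ fun P hP => ?_
      obtain ⟨-, -, f, hf, hN⟩ := hPr P
      rw [hN, (Finset.mem_filter.1 hP).2]
      exact Nat.le_self_pow hf.ne' ℓ
    exact (Nat.pow_le_pow_iff_right hℓ.one_lt).1 (h2.trans (Nat.le_of_dvd (by positivity [hℓ.pos]) h))
  let gP : Pr → ℂ := fun P => (((Ideal.absNorm P.1 : ℝ) ^ (-u) : ℝ) : ℂ)
  have hgP : ∀ P, ‖gP P‖ = (Ideal.absNorm P.1 : ℝ) ^ (-u) := fun P => by
    rw [Complex.norm_real, Real.norm_of_nonneg (by positivity)]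
  have hsP : Summable fun P => ‖gP P‖ := by
    refine summable_of_sum_le (fun _ => norm_nonneg _) (c := (d : ℝ) * ∑' n, b n) fun T => ?_
    calc ∑ P ∈ T, ‖gP P‖ ≤ ∑ P ∈ T, b (pr P) :=
          Finset.sum_le_sum fun P _ => (hgP P).trans_le (hPb P)
      _ = ∑ ℓ ∈ T.image pr, ∑ P ∈ T.filter (fun P => pr P = ℓ), b (pr P) :=
          (Finset.sum_fiberwise_of_maps_to (fun P hP => Finset.mem_image_of_mem pr hP) _).symm
      _ ≤ ∑ ℓ ∈ T.image pr, (d : ℝ) * b ℓ := Finset.sum_le_sum fun ℓ _ => by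
          rw [Finset.sum_congr rfl (g := fun _ => b ℓ) (fun P hP => by rw [(Finset.mem_filter.1 hP).2]),
            Finset.sum_const, nsmul_eq_mul]
          exact mul_le_mul_of_nonneg_right (by exact_mod_cast hfib T ℓ) (hb0 ℓ)
      _ ≤ (d : ℝ) * ∑' n, b n := by
          rw [← Finset.mul_sum]
          exact mul_le_mul_of_nonneg_left (hb.sum_le_tsum _ fun n _ => hb0 n) (Nat.cast_nonneg _)
  have hρ : ((2 : ℝ) ^ (-u)) < 1 := Real.rpow_lt_one_of_one_lt_of_neg one_lt_two (neg_lt_zero.2 hu0)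
  obtain ⟨hmon, -⟩ := Zeta.EulerProd.summable_and_tsum_ne_zero gP hρ (fun P => by
    rw [hgP]
    obtain ⟨hp, -, f, hf, hN⟩ := hPr P
    refine Real.rpow_le_rpow_of_nonpos two_pos ?_ (neg_nonpos.2 hu0.le)
    rw [hN]
    exact_mod_cast hp.two_le.trans (Nat.le_self_pow hf.ne' _)) hsP
  -- ideals
  let I0 := {I : Ideal (𝓞 K) // I ≠ ⊥}
  let M : I0 → Multiset Pr := fun I =>
    (normalizedFactors I.1).pmap (fun P hP => ⟨P, hP⟩) fun P hP => prime_of_normalized_factor P hP
  have hM : ∀ I, ((M I).map Subtype.val).prod = I.1 := fun I => by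
    simp only [M, Multiset.map_pmap, Multiset.pmap_eq_map, Multiset.map_id']
    exact associated_iff_eq.1 (prod_normalizedFactors I.2)
  have hMinj : Function.Injective fun I => Multiset.toFinsupp (M I) := fun I J hIJ =>
    Subtype.ext (by rw [← hM I, ← hM J, Multiset.toFinsupp.injective hIJ])
  have hterm : ∀ I : I0, ‖Zeta.EulerProd.monom gP (Multiset.toFinsupp (M I))‖ =
      (Ideal.absNorm I.1 : ℝ) ^ (-u) := fun I => by
    have : Zeta.EulerProd.monom (fun P => ‖gP P‖) (Multiset.toFinsupp (M I)) =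
        ((M I).map fun P => (Ideal.absNorm P.1 : ℝ) ^ (-u)).prod := by
      rw [Finset.prod_multiset_map_count, Zeta.EulerProd.monom, Finsupp.prod,
        Multiset.toFinsupp_support]
      exact Finset.prod_congr rfl fun P _ => by rw [Multiset.toFinsupp_apply, hgP]
    rw [Zeta.EulerProd.norm_monom, this]
    conv_rhs => rw [← hM I, map_multiset_prod, Multiset.map_map]
    induction M I using Multiset.induction with
    | empty => simp
    | cons P s ih =>
      rw [Multiset.map_cons, Multiset.prod_cons, ih, Multiset.map_cons, Multiset.prod_cons,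
        Nat.cast_mul, Real.mul_rpow (Nat.cast_nonneg _) (Nat.cast_nonneg _)]
      rfl
  have hIsum : Summable fun I : I0 => (Ideal.absNorm I.1 : ℝ) ^ (-u) :=
    ((hmon.comp_injective hMinj).congr fun I => hterm I)
  set C := ∑' I : I0, (Ideal.absNorm I.1 : ℝ) ^ (-u)
  have hcount : ∀ X : ℝ, 1 ≤ X →
      (Nat.card {I : Ideal (𝓞 K) // (Ideal.absNorm I : ℝ) ≤ X} : ℝ) ≤ C * X ^ u + 1 := by
    intro X hX
    have hfin : {I : Ideal (𝓞 K) | (Ideal.absNorm I : ℝ) ≤ X}.Finite := by
      refine (Ideal.finite_setOfPred_absNorm_le ⌊X⌋₊).subset fun I hI => ?_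
      exact (Nat.le_floor_iff (by linarith)).2 hI
    haveI := hfin.to_subtype
    rw [show Nat.card {I : Ideal (𝓞 K) // (Ideal.absNorm I : ℝ) ≤ X} = hfin.toFinset.card from
      (Nat.card_eq_card_finite_toFinset hfin)]
    have hsub : hfin.toFinset ⊆
        insert ⊥ ((hfin.toFinset.subtype fun I => I ≠ ⊥).map (Function.Embedding.subtype _)) := by
      intro I hI
      by_cases h : I = ⊥
      · exact h ▸ Finset.mem_insert_self _ _
      · exact Finset.mem_insert_of_mem (Finset.mem_map.2 ⟨⟨I, h⟩, Finset.mem_subtype.2 hI, rfl⟩)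
    have h2 : ((hfin.toFinset.subtype fun I => I ≠ ⊥).card : ℝ) * X ^ (-u) ≤ C := by
      refine le_trans ?_ (hIsum.sum_le_tsum (hfin.toFinset.subtype fun I => I ≠ ⊥)
        fun I _ => by positivity)
      rw [← nsmul_eq_mul]
      refine Finset.card_nsmul_le_sum _ _ _ fun I hI => ?_
      have hle : (Ideal.absNorm I.1 : ℝ) ≤ X := by
        simpa using Finset.mem_subtype.1 hI
      refine Real.rpow_le_rpow_of_nonpos ?_ hle (neg_nonpos.2 hu0.le)
      exact_mod_cast Nat.pos_of_ne_zero fun h => I.2 (Ideal.absNorm_eq_zero_iff.1 h)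
    have h3 : ((hfin.toFinset).card : ℝ) ≤ (hfin.toFinset.subtype fun I => I ≠ ⊥).card + 1 := by
      exact_mod_cast (Finset.card_le_card hsub).trans
        ((Finset.card_insert_le _ _).trans (by rw [Finset.card_map]))
    rw [Real.rpow_neg (by linarith), ← div_eq_mul_inv, div_le_iff₀ (by positivity)] at h2
    linarith
  have hlim := Ideal.tendsto_norm_le_div_atTop K
  have h0 : Tendsto (fun X : ℝ => (Nat.card {I : Ideal (𝓞 K) // (Ideal.absNorm I : ℝ) ≤ X} : ℝ) / X)
      atTop (𝓝 0) := by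
    have hb' : Tendsto (fun X : ℝ => C * X ^ (-(1 - u)) + X⁻¹) atTop (𝓝 0) := by
      simpa using ((tendsto_rpow_neg_atTop (by linarith : (0 : ℝ) < 1 - u)).const_mul C).add
        tendsto_inv_atTop_zero
    refine squeeze_zero' ?_ ?_ hb'
    · filter_upwards [eventually_ge_atTop (1 : ℝ)] with X hX
      positivity
    · filter_upwards [eventually_ge_atTop (1 : ℝ)] with X hX
      refine (div_le_div_of_nonneg_right (hcount X hX) (by linarith)).trans_eq ?_
      rw [add_div, one_div, mul_div_assoc, ← Real.rpow_sub_one (by linarith), neg_sub]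
  refine absurd (tendsto_nhds_unique h0 hlim) (ne_of_lt ?_)
  rw [← dedekindZeta_residue_def]
  exact dedekindZeta_residue_pos K

end Groth.Agent.Lib.WeakLW.IntBase
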