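import Groth.Agent.Lib.WeakLW.Induct
import Groth.Agent.Lib.WeakLW.IntBase

/-!
The number of points modulo `ℓ` of a monic separable cover of an open subset of affine `n`-space over
`ℤ` is at least a positive multiple of `ℓ ^ n` for many primes `ℓ`.
-/

set_option autoImplicit false
set_option linter.style.haveILetI false

namespace Groth.Agent.Lib.WeakLW.IntInduct

open MvPolynomial

/-- The number of points modulo `ℓ` of `g(x, y) = 0`, `h(x) ≠ 0`. -/
noncomputable def cntZ {n : ℕ} (g : Polynomial (MvPolynomial (Fin n) ℤ)) (h : MvPolynomial (Fin n) ℤ)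
    (ℓ : ℕ) : ℕ :=
  Nat.card {p : (Fin n → ZMod ℓ) × ZMod ℓ // eval₂Hom (Int.castRingHom (ZMod ℓ)) p.1 h ≠ 0 ∧
    g.eval₂ (eval₂Hom (Int.castRingHom (ZMod ℓ)) p.1) p.2 = 0}

/-- A set of primes with divergent sums of `ℓ ^ (-t)` for all `t < 1`. -/
def Big (S : Set ℕ) : Prop :=
  (∀ ℓ ∈ S, ℓ.Prime) ∧ ∀ t : ℝ, t < 1 → ¬ Summable (S.indicator fun n : ℕ => (n : ℝ) ^ (-t))

theorem Big.inter_Ici {S : Set ℕ} (hS : Big S) (N : ℕ) : Big (S ∩ Set.Ici N) := by
  refine ⟨fun ℓ hℓ => hS.1 ℓ hℓ.1, fun t ht hsum => hS.2 t ht ?_⟩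
  refine hsum.congr_cofinite ?_
  rw [Filter.EventuallyEq, Filter.eventually_cofinite]
  refine (Set.finite_Iio N).subset fun n hn => ?_
  by_contra h
  refine hn ?_
  rw [Set.mem_Iio, not_lt] at h
  by_cases hnS : n ∈ S
  · rw [Set.indicator_of_mem hnS, Set.indicator_of_mem (show n ∈ S ∩ Set.Ici N from ⟨hnS, h⟩)]
  · rw [Set.indicator_of_notMem hnS, Set.indicator_of_notMem fun hc => hnS hc.1]

theorem exists_count_ge (n : ℕ) : ∀ (g a b : Polynomial (MvPolynomial (Fin n) ℤ))
    (h : MvPolynomial (Fin n) ℤ),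
    g.Monic → 0 < g.natDegree → h ≠ 0 → a * g + b * g.derivative = Polynomial.C h →
    ∃ (c : ℝ) (S : Set ℕ), 0 < c ∧ Big S ∧ ∀ ℓ ∈ S, c * (ℓ : ℝ) ^ n ≤ cntZ g h ℓ := by
  induction n with
  | zero =>
    intro g a b h hg hD hh _
    let ev : MvPolynomial (Fin 0) ℤ →+* ℤ := eval₂Hom (RingHom.id ℤ) fun i => i.elim0
    obtain ⟨r, rfl⟩ := MvPolynomial.C_surjective (Fin 0) h
    have hr : r ≠ 0 := fun h0 => hh (by rw [h0, map_zero])
    have hbig : Big (IntBase.rootPrimes (g.map ev)) := ⟨fun ℓ hℓ => hℓ.1,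
      IntBase.not_summable_rootPrimes (g.map ev) (hg.map _) (by rwa [hg.natDegree_map])⟩
    refine ⟨1, _, one_pos, hbig.inter_Ici (r.natAbs + 1), fun ℓ hℓ => ?_⟩
    obtain ⟨⟨hp, y, hy⟩, hℓr⟩ := hℓ
    haveI : Fact ℓ.Prime := ⟨hp⟩
    have hx : eval₂Hom (Int.castRingHom (ZMod ℓ)) (fun i : Fin 0 => i.elim0) =
        (Int.castRingHom (ZMod ℓ)).comp ev :=
      MvPolynomial.ringHom_ext (fun r => by simp [ev]) (fun i => i.elim0)
    haveI : Nonempty {p : (Fin 0 → ZMod ℓ) × ZMod ℓ //
        eval₂Hom (Int.castRingHom (ZMod ℓ)) p.1 (C r) ≠ 0 ∧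
          g.eval₂ (eval₂Hom (Int.castRingHom (ZMod ℓ)) p.1) p.2 = 0} := by
      refine ⟨⟨(fun i => i.elim0, y), ?_, ?_⟩⟩
      · rw [eval₂Hom_C, Int.coe_castRingHom, Ne, ZMod.intCast_zmod_eq_zero_iff_dvd, Int.natCast_dvd]
        intro hdvd
        have := Nat.le_of_dvd (Int.natAbs_pos.2 hr) hdvd
        rw [Set.mem_Ici] at hℓr
        omega
      · rw [hx, ← Polynomial.eval₂_map]
        exact hy
    rw [pow_zero, mul_one, cntZ]
    exact_mod_cast Nat.card_pos
  | succ n ih =>
    intro g a b h hg hD hh hab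
    classical
    set e := (finSuccEquiv ℤ n).toRingEquiv.toRingHom
    have heh : e h ≠ 0 := fun h0 => hh ((finSuccEquiv ℤ n).injective (h0.trans (map_zero _).symm))
    -- a value of the first variable
    obtain ⟨i, hi⟩ : ∃ i, (e h).coeff i ≠ 0 := by
      by_contra hall
      exact heh (Polynomial.ext fun i => by simpa using not_exists_not.1 hall i)
    obtain ⟨m, hm⟩ := MvPolynomial.exists_coeff_ne_zero hi
    let Q : Polynomial ℤ :=
      ∑ l ∈ Finset.range ((e h).natDegree + 1), Polynomial.monomial l (coeff m ((e h).coeff l))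
    have hQ : Q ≠ 0 := fun h0 => hm (by
      have hile : i < (e h).natDegree + 1 := Nat.lt_succ_of_le (Polynomial.le_natDegree_of_ne_zero hi)
      have := congrArg (fun q : Polynomial ℤ => q.coeff i) h0
      simpa [Q, Polynomial.finsetSum_coeff, Polynomial.coeff_monomial, hile] using this)
    obtain ⟨τ, hτ₀⟩ := Infinite.exists_notMem_finset Q.roots.toFinset
    let s : MvPolynomial (Fin (n + 1)) ℤ →+* MvPolynomial (Fin n) ℤ :=
      (Polynomial.evalRingHom (C τ)).comp e
    have hsh : s h ≠ 0 := fun h0 => hτ₀ (by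
      rw [Multiset.mem_toFinset, Polynomial.mem_roots hQ, Polynomial.IsRoot]
      have h1 := congrArg (fun q => coeff m q) h0
      simp only [coeff_zero, s, RingHom.comp_apply, Polynomial.coe_evalRingHom,
        Polynomial.eval_eq_sum_range, coeff_sum] at h1
      simp only [Q, Polynomial.eval_finsetSum, Polynomial.eval_monomial]
      refine Eq.trans (Finset.sum_congr rfl fun l _ => ?_) h1
      rw [← map_pow C, mul_comm ((e h).coeff l), coeff_C_mul, mul_comm])
    obtain ⟨c, S, hc, hS, hk2⟩ := ih (g.map s) (a.map s) (b.map s) (s h) (hg.map s)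
      (by rwa [hg.natDegree_map]) hsh (by
        rw [Polynomial.derivative_map, ← Polynomial.map_mul, ← Polynomial.map_mul,
          ← Polynomial.map_add, hab, Polynomial.map_C])
    -- bounds
    set D := g.natDegree
    let w := (Finset.range (D + 1)).sup fun l => (e (g.coeff l)).natDegree
    let dh := (e h).natDegree
    let R : ℕ := 4 * (1 + w * D ^ 2) + 2 * D * (1 + dh)
    refine ⟨c / (2 * D ^ 2), S ∩ Set.Ici (R ^ 2), by positivity, hS.inter_Ici _, fun ℓ hℓ => ?_⟩
    obtain ⟨hℓS, hℓR⟩ := hℓ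
    haveI : Fact ℓ.Prime := ⟨hS.1 ℓ hℓS⟩
    let F := ZMod ℓ
    set φ := Int.castRingHom (ZMod ℓ)
    set τF := φ τ
    have hs : ∀ x : Fin n → ZMod ℓ,
        (eval₂Hom φ x).comp s = eval₂Hom φ (Fin.cons τF x : Fin (n + 1) → ZMod ℓ) := by
      intro x
      rw [Induct.eval₂Hom_cons, ← RingHom.comp_assoc]
      refine congrArg (fun f => RingHom.comp f e) (Polynomial.ringHom_ext (fun q => ?_) ?_)
      · simp only [RingHom.comp_apply, Polynomial.coe_evalRingHom, Polynomial.coe_eval₂RingHom,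
          Polynomial.eval_C, Polynomial.eval₂_C]
      · simp [τF]
        exact map_intCast (eval₂Hom φ x) τ
    let W := Finset.univ.filter fun p : (Fin n → F) × F =>
      eval₂Hom φ p.1 (s h) ≠ 0 ∧ (g.map s).eval₂ (eval₂Hom φ p.1) p.2 = 0
    have hW : c * (Nat.card F : ℝ) ^ n ≤ W.card := by
      rw [show Nat.card F = ℓ from Nat.card_zmod ℓ]
      refine (hk2 ℓ hℓS).trans_eq ?_
      rw [cntZ, Nat.card_eq_fintype_card, Fintype.card_subtype]
    let T := W.image Prod.fst
    have hWT : W.card ≤ T.card * D := by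
      rw [mul_comm]
      refine Finset.card_le_mul_card_image (f := Prod.fst) W D fun x _ => ?_
      have hne : (g.map s).map (eval₂Hom φ x) ≠ 0 := ((hg.map s).map _).ne_zero
      refine le_trans (Finset.card_le_card_of_injOn
          (t := ((g.map s).map (eval₂Hom φ x)).roots.toFinset) Prod.snd (fun p hp => ?_) ?_)
        ((Multiset.toFinset_card_le _).trans ((Polynomial.card_roots' _).trans
          (Polynomial.natDegree_map_le.trans (hg.natDegree_map s).le)))
      · rw [Finset.mem_coe, Finset.mem_filter] at hp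
        obtain ⟨hp, rfl⟩ := hp
        rw [Finset.mem_coe, Multiset.mem_toFinset, Polynomial.mem_roots hne, Polynomial.IsRoot,
          Polynomial.eval_map]
        exact (Finset.mem_filter.1 hp).2.2
      · intro p hp q hq hpq
        rw [Finset.mem_coe, Finset.mem_filter] at hp hq
        exact Prod.ext (hp.2.trans hq.2.symm) hpq
    -- points on each fibre
    let ψ : (Fin n → F) → (MvPolynomial (Fin (n + 1)) ℤ →+* Polynomial F) := fun x =>
      (Polynomial.mapRingHom (eval₂Hom φ x)).comp e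
    have hψ : ∀ (x : Fin n → F) (t : F), (Polynomial.evalRingHom t).comp (ψ x) =
        eval₂Hom φ (Fin.cons t x : Fin (n + 1) → F) := fun x t => by
      rw [Induct.eval₂Hom_cons]
      refine RingHom.ext fun q => ?_
      simp only [ψ, RingHom.comp_apply, Polynomial.coe_evalRingHom, Polynomial.coe_mapRingHom,
        Polynomial.coe_eval₂RingHom, Polynomial.eval_map]
      rfl
    have hev : ∀ (x : Fin n → F) (q : Polynomial (MvPolynomial (Fin (n + 1)) ℤ)) (t y : F),
        (q.map (ψ x)).evalEval t y = q.eval₂ (eval₂Hom φ (Fin.cons t x : Fin (n + 1) → F)) y :=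
      fun x q t y => by
        rw [← Polynomial.map_evalRingHom_eval, Polynomial.map_map, hψ, Polynomial.eval_map]
    let Pts : (Fin n → F) → Finset (F × F) := fun x => Finset.univ.filter fun p =>
      eval₂Hom φ (Fin.cons p.1 x : Fin (n + 1) → F) h ≠ 0 ∧
        g.eval₂ (eval₂Hom φ (Fin.cons p.1 x : Fin (n + 1) → F)) p.2 = 0
    have hfib : ∀ x ∈ T, (Nat.card F : ℝ) ≤ 2 * D * (Pts x).card := by
      intro x hx
      obtain ⟨⟨x', y⟩, hp, rfl⟩ := Finset.mem_image.1 hx
      obtain ⟨-, hp1, hp2⟩ := Finset.mem_filter.1 hp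
      simp only at hp1 hp2 ⊢
      rw [Polynomial.eval₂_map] at hp2
      rw [← RingHom.comp_apply, hs] at hp1
      rw [hs] at hp2
      have hd : g.derivative.eval₂ (eval₂Hom φ (Fin.cons τF x' : Fin (n + 1) → F)) y ≠ 0 := fun h0 => by
        have := congrArg (fun q => Polynomial.eval₂ (eval₂Hom φ (Fin.cons τF x' : Fin (n + 1) → F)) y q) hab
        simp only [Polynomial.eval₂_add, Polynomial.eval₂_mul, hp2, h0, mul_zero, add_zero,
          Polynomial.eval₂_C] at this
        exact hp1 this.symm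
      have hψh : ψ x' h ≠ 0 := fun h0 => hp1 (by
        rw [← hψ, RingHom.comp_apply, h0, map_zero])
      have hb := Curve.card_points_ge (hg.map (ψ x')) (D := D) (w := w)
        Polynomial.natDegree_map_le (fun l => by
          rw [Polynomial.coeff_map]
          by_cases hl : l ≤ D
          · exact Polynomial.natDegree_map_le.trans (Finset.le_sup
              (f := fun l => (e (g.coeff l)).natDegree) (Finset.mem_range.2 (Nat.lt_succ_of_le hl)))
          · rw [Polynomial.coeff_eq_zero_of_natDegree_lt (not_le.1 hl), map_zero,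
              Polynomial.natDegree_zero]
            exact Nat.zero_le _)
        τF y (by rw [hev]; exact hp2) (by rw [Polynomial.derivative_map, hev]; exact hd)
        (ψ x' h).roots.toFinset
      have hS : (ψ x' h).roots.toFinset.card ≤ dh :=
        (Multiset.toFinset_card_le _).trans ((Polynomial.card_roots' _).trans Polynomial.natDegree_map_le)
      have hP : Nat.card {p : F × F // p.1 ∉ (ψ x' h).roots.toFinset ∧
          (g.map (ψ x')).evalEval p.1 p.2 = 0} = (Pts x').card := by
        rw [Nat.card_eq_fintype_card, Fintype.card_subtype]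
        refine congrArg Finset.card (Finset.filter_congr fun p _ => ?_)
        rw [Multiset.mem_toFinset, Polynomial.mem_roots hψh, Polynomial.IsRoot, hev,
          ← Polynomial.coe_evalRingHom, ← RingHom.comp_apply, hψ]
      rw [hP] at hb
      have hQR : (R : ℝ) ≤ Real.sqrt (Nat.card F) := by
        refine Real.le_sqrt_of_sq_le ?_
        exact_mod_cast (Set.mem_Ici.1 hℓR).trans (Nat.card_zmod ℓ).ge
      have hsq : Real.sqrt (Nat.card F) * Real.sqrt (Nat.card F) = (Nat.card F : ℝ) :=
        Real.mul_self_sqrt (Nat.cast_nonneg _)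
      have hs1 : (1 : ℝ) ≤ Real.sqrt (Nat.card F) := by
        refine Real.one_le_sqrt.2 ?_
        exact_mod_cast Finite.one_lt_card.le
      have hSr : ((ψ x' h).roots.toFinset.card : ℝ) ≤ dh := by exact_mod_cast hS
      have hRr : (R : ℝ) = 4 * (1 + w * D ^ 2) + 2 * D * (1 + dh) := by simp [R]
      have hDr : (0 : ℝ) ≤ D := Nat.cast_nonneg _
      have e1 := mul_le_mul_of_nonneg_left hQR (Real.sqrt_nonneg (Nat.card F : ℝ))
      have e2 : (D : ℝ) * (1 + ((ψ x' h).roots.toFinset.card : ℝ)) ≤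
          D * (1 + dh) * Real.sqrt (Nat.card F) := by
        refine le_trans ?_ (le_mul_of_one_le_right (by positivity) hs1)
        exact mul_le_mul_of_nonneg_left (by linarith) hDr
      rw [hsq, hRr] at e1
      nlinarith
    have hsig : (T.sigma Pts).card ≤ cntZ g h ℓ := by
      rw [cntZ, ← Nat.card_eq_finsetCard]
      refine Nat.card_le_card_of_injective (fun z => ⟨((Fin.cons z.1.2.1 z.1.1 : Fin (n + 1) → F), z.1.2.2),
        (Finset.mem_filter.1 (Finset.mem_sigma.1 z.2).2).2⟩) ?_
      rintro ⟨⟨x, t, y⟩, hz⟩ ⟨⟨x', t', y'⟩, hz'⟩ heq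
      obtain ⟨h1, h2⟩ := Prod.ext_iff.1 (congrArg Subtype.val heq)
      have h1' : (Fin.cons t x : Fin (n + 1) → F) = Fin.cons t' x' := h1
      obtain ⟨h3, h4⟩ := Fin.cons_inj.1 h1'
      simp only at h2 h3 h4
      subst h2; subst h3; subst h4; rfl
    have hTsum : (T.card : ℝ) * Nat.card F ≤ 2 * D * (cntZ g h ℓ : ℕ) := by
      refine le_trans ?_ (mul_le_mul_of_nonneg_left (Nat.cast_le.2 hsig) (by positivity))
      rw [Finset.card_sigma, Nat.cast_sum, Finset.mul_sum, ← nsmul_eq_mul]
      exact Finset.card_nsmul_le_sum _ _ _ hfib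
    have hWT' : (W.card : ℝ) ≤ T.card * D := by exact_mod_cast hWT
    have hDpos : (0 : ℝ) < D := by exact_mod_cast hD
    rw [show (ℓ : ℝ) = Nat.card F from by exact_mod_cast (Nat.card_zmod ℓ).symm]
    rw [div_mul_eq_mul_div, div_le_iff₀ (by positivity), pow_succ]
    have h5 := mul_le_mul_of_nonneg_right (hW.trans hWT') (Nat.cast_nonneg (α := ℝ) (Nat.card F))
    have h6 := mul_le_mul_of_nonneg_left hTsum hDpos.le
    nlinarith

end Groth.Agent.Lib.WeakLW.IntInduct
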