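import Groth.Agent.Lib.WeakLW.Field
import Groth.Agent.Lib.WeakLW.IntInduct
import Mathlib.Algebra.Field.ZMod

/-!
A domain of finite type over `ℤ` of characteristic zero has many points modulo many primes.
-/

set_option autoImplicit false
set_option linter.style.haveILetI false

namespace Groth.Agent.Lib.WeakLW.IntField

open MvPolynomial IntermediateField
open Groth.Agent.Lib.WeakLW.Field (exists_clear)

universe u

theorem exists_int_multiple {K : Type u} [Field K] [CharZero K] {σ : Type*} (x : σ → K)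
    (p : MvPolynomial σ ℚ) :
    ∃ d : ℤ, d ≠ 0 ∧ ∃ q : MvPolynomial σ ℤ, aeval x q = (d : K) * aeval x p := by
  induction p using MvPolynomial.induction_on with
  | C c =>
    refine ⟨c.den, by exact_mod_cast c.den_nz, C c.num, ?_⟩
    simp only [aeval_C, eq_intCast, eq_ratCast, Int.cast_natCast]
    rw [mul_comm, ← Rat.cast_natCast, ← Rat.cast_mul, Rat.mul_den_eq_num, Rat.cast_intCast]
    exact map_intCast (aeval x) c.num
  | add p q hp hq =>
    obtain ⟨d₁, hd₁, q₁, h₁⟩ := hp
    obtain ⟨d₂, hd₂, q₂, h₂⟩ := hq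
    refine ⟨d₁ * d₂, mul_ne_zero hd₁ hd₂, C d₂ * q₁ + C d₁ * q₂, ?_⟩
    simp [h₁, h₂]
    ring
  | mul_X p i hp =>
    obtain ⟨d, hd, q, h⟩ := hp
    exact ⟨d, hd, q * X i, by simp [h, mul_assoc]⟩

/-- A separable plane model: `K` is `k(x)(y)` with `y` integral over `k[x]`. -/
theorem exists_model (K : Type u) [Field K] [CharZero K]
    [Algebra.EssFiniteType ℚ K] (s : ℕ) (hs : Algebra.trdeg ℚ K = s) :
    ∃ (x : Fin s → K) (y : K) (g a b : Polynomial (MvPolynomial (Fin s) ℤ))
      (h : MvPolynomial (Fin s) ℤ),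
      Function.Injective (aeval x : MvPolynomial (Fin s) ℤ →ₐ[ℤ] K) ∧
      g.Monic ∧ 0 < g.natDegree ∧ h ≠ 0 ∧ a * g + b * g.derivative = Polynomial.C h ∧
      g.eval₂ (aeval x : MvPolynomial (Fin s) ℤ →ₐ[ℤ] K).toRingHom y = 0 ∧
      (∀ q : Polynomial (MvPolynomial (Fin s) ℤ),
        q.eval₂ (aeval x : MvPolynomial (Fin s) ℤ →ₐ[ℤ] K).toRingHom y = 0 → g ∣ q) ∧
      ∀ z : K, ∃ (d : MvPolynomial (Fin s) ℤ) (q : Polynomial (MvPolynomial (Fin s) ℤ)),
        d ≠ 0 ∧ aeval x d * z = q.eval₂ (aeval x : MvPolynomial (Fin s) ℤ →ₐ[ℤ] K).toRingHom y := by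
  classical
  obtain ⟨S, hS, hsep⟩ := exists_isTranscendenceBasis_and_isSeparable_of_perfectField ℚ K
  have hcard : Fintype.card S = s := by
    have h := hS.cardinalMk_eq_trdeg
    rw [hs, Cardinal.mk_fintype] at h
    exact_mod_cast h
  let e : Fin s ≃ S := (Fintype.equivFinOfCardEq hcard).symm
  let x : Fin s → K := fun i => (e i : K)
  have hx : AlgebraicIndependent ℚ x := hS.1.comp e e.injective
  have hrange : Set.range x = (S : Set K) := by
    ext z
    exact ⟨fun ⟨i, hi⟩ => hi ▸ (e i).2, fun hz => ⟨e.symm ⟨z, hz⟩, by simp [x]⟩⟩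
  let K0 := IntermediateField.adjoin ℚ (Set.range x)
  haveI : Algebra.IsSeparable K0 K := by
    show Algebra.IsSeparable (IntermediateField.adjoin ℚ (Set.range x)) K
    rw [hrange]
    exact hsep
  haveI : Algebra.EssFiniteType K0 K := Algebra.EssFiniteType.of_comp ℚ K0 K
  haveI : FiniteDimensional K0 K := Algebra.finite_of_essFiniteType_of_isAlgebraic
  obtain ⟨θ, hθ⟩ := Field.exists_primitive_element K0 K
  set P := MvPolynomial (Fin s) ℤ
  let fK : P →ₐ[ℤ] K := aeval x
  have hfK : Function.Injective fK := hx.restrictScalars (Int.cast_injective (α := ℚ))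
  let f : P →+* K0 := (aeval (fun i => (⟨x i, subset_adjoin ℚ _ ⟨i, rfl⟩⟩ : K0)) : P →ₐ[ℤ] K0).toRingHom
  have hfcomp : (algebraMap K0 K).comp f = fK.toRingHom := by
    refine MvPolynomial.ringHom_ext (fun r => ?_) (fun i => ?_)
    · simp [f, fK, ← IsScalarTower.algebraMap_apply]
    · simp [f, fK]
      exact (aeval_X x i).symm
  have hfco : ∀ p, ((f p : K0) : K) = fK p := fun p => RingHom.congr_fun hfcomp p
  have hfinj : Function.Injective f := fun p q hpq => hfK (by rw [← hfco, ← hfco, hpq])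
  have hfrac : ∀ z : K0, ∃ a b : P, b ≠ 0 ∧ f b * z = f a := by
    intro z
    obtain ⟨a₀, b₀, hz⟩ := (IntermediateField.mem_adjoin_range_iff ℚ x (z : K)).1 z.2
    obtain ⟨da, hda, a₁, ha⟩ := exists_int_multiple x a₀
    obtain ⟨db, hdb, b₁, hb₁⟩ := exists_int_multiple x b₀
    set a : P := C db * a₁
    set b : P := C da * b₁
    have hab' : fK a = (da * db : ℤ) * aeval x a₀ ∧ fK b = (da * db : ℤ) * aeval x b₀ := by
      constructor <;> simp [a, b, fK, ha, hb₁] <;> ring
    by_cases hb : b = 0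
    · refine ⟨0, 1, one_ne_zero, Subtype.ext ?_⟩
      have h0 : aeval x b₀ = 0 := by
        have := hab'.2
        rw [hb, map_zero, eq_comm, mul_eq_zero] at this
        exact this.resolve_left (Int.cast_ne_zero.2 (mul_ne_zero hda hdb))
      rw [h0, div_zero] at hz
      simp [hz]
    refine ⟨a, b, hb, Subtype.ext ?_⟩
    show ((f b : K0) : K) * (z : K) = _
    rw [hfco, hfco, hz, hab'.1, hab'.2, mul_assoc]
    refine congrArg (_ * ·) ?_
    exact mul_div_cancel₀ _ fun h0 => hb (hfK (by rw [hab'.2, h0, mul_zero, map_zero]))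
  -- clear denominators in the minimal polynomial
  set μ := minpoly K0 θ
  have hθint : IsIntegral K0 θ := Algebra.IsIntegral.isIntegral θ
  obtain ⟨d, hd, Q, hQ⟩ := exists_clear f hfrac μ
  have hfd : f d ≠ 0 := fun h0 => hd (hfinj (h0.trans (map_zero f).symm))
  set μ' := μ.scaleRoots (f d)
  have hlift : μ' ∈ Polynomial.lifts f := by
    rw [Polynomial.lifts_iff_coeff_lifts]
    intro i
    rw [Polynomial.coeff_scaleRoots]
    rcases lt_trichotomy i μ.natDegree with hi | hi | hi
    · refine ⟨Q.coeff i * d ^ (μ.natDegree - i - 1), ?_⟩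
      have hQi := congrArg (fun p : Polynomial K0 => p.coeff i) hQ
      simp only [Polynomial.coeff_map, Polynomial.coeff_C_mul] at hQi
      rw [map_mul, map_pow, hQi, mul_comm (f d), mul_assoc, ← pow_succ',
        show μ.natDegree - i - 1 + 1 = μ.natDegree - i by omega]
    · exact ⟨1, by rw [hi, (minpoly.monic hθint).coeff_natDegree, Nat.sub_self, pow_zero, mul_one,
        map_one]⟩
    · exact ⟨0, by rw [Polynomial.coeff_eq_zero_of_natDegree_lt hi, zero_mul, map_zero]⟩
  obtain ⟨g, hgμ, hgdeg, hgm⟩ := Polynomial.lifts_and_natDegree_eq_and_monic hlift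
    ((Polynomial.monic_scaleRoots_iff _).2 (minpoly.monic hθint))
  let y : K := algebraMap K0 K (f d) * θ
  have hy0 : Polynomial.aeval y μ' = 0 :=
    Polynomial.scaleRoots_aeval_eq_zero (minpoly.aeval K0 θ)
  have hytop : IntermediateField.adjoin K0 ({y} : Set K) = ⊤ := by
    rw [eq_top_iff, ← hθ, adjoin_simple_le_iff]
    have hne : algebraMap K0 K (f d) ≠ 0 := by
      rwa [Ne, map_eq_zero]
    have : θ = (algebraMap K0 K (f d))⁻¹ * y := (inv_mul_cancel_left₀ hne θ).symm
    rw [this]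
    exact mul_mem (inv_mem (IntermediateField.algebraMap_mem _ _)) (mem_adjoin_simple_self K0 y)
  have hyint : IsIntegral K0 y := Algebra.IsIntegral.isIntegral y
  have hμ' : μ' = minpoly K0 y := by
    have h1 : (minpoly K0 y).natDegree = μ.natDegree := by
      rw [← IntermediateField.adjoin.finrank hyint, ← IntermediateField.adjoin.finrank hθint, hytop, hθ]
    refine Polynomial.eq_of_monic_of_dvd_of_natDegree_le (minpoly.monic hyint)
      ((Polynomial.monic_scaleRoots_iff _).2 (minpoly.monic hθint)) (minpoly.dvd K0 y hy0) ?_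
    rw [h1, Polynomial.natDegree_scaleRoots]
  have hev : ∀ q : Polynomial P, Polynomial.aeval y (q.map f) = q.eval₂ fK.toRingHom y := fun q => by
    rw [Polynomial.aeval_def, Polynomial.eval₂_map, hfcomp]
  have hsepy : (g.map f).Separable := by
    rw [hgμ, hμ']
    exact Algebra.IsSeparable.isSeparable K0 y
  obtain ⟨a, b, hab⟩ := (Polynomial.separable_def' _).1 hsepy
  obtain ⟨da, hda, A, hA⟩ := exists_clear f hfrac a
  obtain ⟨db, hdb, B, hB⟩ := exists_clear f hfrac b
  refine ⟨x, y, g, Polynomial.C db * A, Polynomial.C da * B, da * db, hfK, hgm, ?_,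
    mul_ne_zero hda hdb, ?_, ?_, fun q hq => ?_, fun z => ?_⟩
  · have : g.natDegree = μ.natDegree := by rw [hgdeg, Polynomial.natDegree_scaleRoots]
    rw [this]
    exact minpoly.natDegree_pos hθint
  · apply Polynomial.map_injective f hfinj
    simp only [Polynomial.map_add, Polynomial.map_mul, Polynomial.map_C, ← Polynomial.derivative_map,
      hA, hB, map_mul]
    linear_combination (Polynomial.C (f da) * Polynomial.C (f db)) * hab
  · rw [← hev, hgμ, hy0]
  · refine (Polynomial.map_dvd_map f hfinj hgm).1 ?_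
    rw [hgμ, hμ']
    exact minpoly.dvd K0 y (by rw [hev]; exact hq)
  · have hz : z ∈ IntermediateField.adjoin K0 ({y} : Set K) := hytop ▸ IntermediateField.mem_top
    rw [← IntermediateField.mem_toSubalgebra,
      IntermediateField.adjoin_simple_toSubalgebra_of_isAlgebraic hyint.isAlgebraic,
      Algebra.adjoin_singleton_eq_range_aeval] at hz
    obtain ⟨q, hq⟩ := hz
    obtain ⟨dq, hdq, Qz, hQz⟩ := exists_clear f hfrac q
    refine ⟨dq, Qz, hdq, ?_⟩
    rw [← hev, hQz, map_mul, Polynomial.aeval_C]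
    exact congrArg₂ (· * ·) (hfco dq).symm hq.symm

theorem essFiniteType_rat (A : Type u) [CommRing A] [IsDomain A] [Algebra.FiniteType ℤ A]
    (K : Type u) [Field K] [CharZero K] [Algebra A K] [IsFractionRing A K] :
    Algebra.EssFiniteType ℚ K := by
  haveI : IsScalarTower ℤ A K := IsScalarTower.of_algebraMap_eq' (RingHom.ext_int _ _)
  haveI : IsScalarTower ℤ ℚ K := IsScalarTower.of_algebraMap_eq' (RingHom.ext_int _ _)
  haveI : Algebra.EssFiniteType A K := Algebra.EssFiniteType.of_isLocalization K (nonZeroDivisors _)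
  haveI : Algebra.EssFiniteType ℤ K := Algebra.EssFiniteType.comp ℤ A K
  exact Algebra.EssFiniteType.of_comp ℤ ℚ K

/-- Lower bound for points of an affine variety. -/
theorem exists_points (A : Type u) [CommRing A] [IsDomain A] [CharZero A] [Algebra.FiniteType ℤ A]
    (K : Type u) [Field K] [CharZero K] [Algebra A K] [IsFractionRing A K] :
    ∃ (c : ℝ) (S : Set ℕ), 0 < c ∧ IntInduct.Big S ∧
      ∀ ℓ ∈ S, ∀ (F : Type u) [Field F] (_ : ZMod ℓ ≃+* F),
        ∃ N : ℕ, c * (ℓ : ℝ) ^ (Cardinal.toNat (Algebra.trdeg ℚ K)) ≤ N ∧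
          ∃ Φ : Fin N → (A →+* F), Function.Injective Φ := by
  classical
  haveI : IsScalarTower ℤ A K := IsScalarTower.of_algebraMap_eq' (RingHom.ext_int _ _)
  haveI : IsScalarTower ℤ ℚ K := IsScalarTower.of_algebraMap_eq' (RingHom.ext_int _ _)
  haveI : Algebra.EssFiniteType ℤ K :=
    haveI : Algebra.EssFiniteType A K := Algebra.EssFiniteType.of_isLocalization K (nonZeroDivisors A)
    Algebra.EssFiniteType.comp ℤ A K
  haveI : Algebra.EssFiniteType ℚ K := Algebra.EssFiniteType.of_comp ℤ ℚ K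
  set s := Cardinal.toNat (Algebra.trdeg ℚ K) with hs_def
  have htrK : Algebra.trdeg ℚ K = s := by
    obtain ⟨S'', hS'', -⟩ := exists_isTranscendenceBasis_and_isSeparable_of_perfectField ℚ K
    rw [hs_def, ← hS''.cardinalMk_eq_trdeg, Cardinal.cast_toNat_of_lt_aleph0]
    exact Cardinal.lt_aleph0_of_finite _
  obtain ⟨x, y, g, a, b, h₀, hfK, hgm, hgd, hh₀, hab, hgy, hdvd, hgen⟩ := exists_model K s htrK
  let P := MvPolynomial (Fin s) ℤ
  let fK : P →ₐ[ℤ] K := aeval x
  -- denominators of the coordinates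
  have hw : ∀ z : K, ∃ (p q : A), q ≠ 0 ∧ z * algebraMap A K q = algebraMap A K p := fun z => by
    obtain ⟨⟨p, q⟩, hpq⟩ := IsLocalization.surj (nonZeroDivisors A) z
    exact ⟨p, q, nonZeroDivisors.coe_ne_zero q, hpq⟩
  choose num den hden hnd using hw
  obtain ⟨G, hG⟩ := Algebra.FiniteType.out (R := ℤ) (A := A)
  let Z : Finset K := G.image (algebraMap A K) ∪
    (insert y (Finset.univ.image x)).image fun w => (algebraMap A K (den w))⁻¹
  choose dz qz hdz hqz using hgen
  let h := h₀ * ∏ z ∈ Z, dz z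
  have hh : h ≠ 0 := mul_ne_zero hh₀ (Finset.prod_ne_zero_iff.2 fun z _ => hdz z)
  let R := AdjoinRoot g
  let σ : R →ₐ[ℤ] K :=
    { AdjoinRoot.lift fK.toRingHom y hgy with
      commutes' := fun c => by
        show AdjoinRoot.lift fK.toRingHom y hgy (algebraMap ℤ R c) = _
        rw [IsScalarTower.algebraMap_apply ℤ P R, AdjoinRoot.algebraMap_eq, AdjoinRoot.lift_of]
        exact fK.commutes c }
  have hσ : Function.Injective σ := by
    rw [injective_iff_map_eq_zero]
    intro r hr
    obtain ⟨q, rfl⟩ := AdjoinRoot.mk_surjective r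
    refine AdjoinRoot.mk_eq_zero.2 (hdvd q ?_)
    rw [← AdjoinRoot.lift_mk hgy]
    exact hr
  let hR : R := AdjoinRoot.of g h
  let T := Localization.Away hR
  have hσh : σ hR ≠ 0 := by
    show AdjoinRoot.lift fK.toRingHom y hgy (AdjoinRoot.of g h) ≠ 0
    rw [AdjoinRoot.lift_of]
    exact fun h0 => hh (hfK (h0.trans (map_zero fK).symm))
  have hunit : ∀ u : Submonoid.powers hR, IsUnit (σ u) := by
    rintro ⟨_, n, rfl⟩
    rw [map_pow]
    exact (Ne.isUnit hσh).pow n
  let τ : T →ₐ[ℤ] K := IsLocalization.liftAlgHom (M := Submonoid.powers hR) (f := σ) hunit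
  have hτ : Function.Injective τ := by
    rw [injective_iff_map_eq_zero]
    intro z hz
    obtain ⟨r, u, rfl⟩ := IsLocalization.exists_mk'_eq (Submonoid.powers hR) z
    rw [IsLocalization.coe_liftAlgHom, IsLocalization.lift_mk'_spec, mul_zero] at hz
    rw [hσ (hz.trans (map_zero σ).symm), IsLocalization.mk'_zero]
  have hτR : ∀ r : R, τ (algebraMap R T r) = σ r := fun r => IsLocalization.lift_eq _ r
  have hZ : ∀ z ∈ Z, z ∈ τ.range := fun z hz => by
    refine ⟨IsLocalization.mk' T (AdjoinRoot.of g (h₀ * ∏ w ∈ Z.erase z, dz w) * AdjoinRoot.mk g (qz z))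
      ⟨hR, Submonoid.mem_powers hR⟩, ?_⟩
    rw [AlgHom.toRingHom_eq_coe, RingHom.coe_coe, IsLocalization.coe_liftAlgHom, IsLocalization.lift_mk'_spec]
    show AdjoinRoot.lift fK.toRingHom y hgy _ = AdjoinRoot.lift fK.toRingHom y hgy (AdjoinRoot.of g h) * z
    rw [map_mul, AdjoinRoot.lift_of, AdjoinRoot.lift_mk, AdjoinRoot.lift_of, ← hqz z]
    simp only [h, ← Finset.mul_prod_erase Z dz hz, map_mul]
    show _ * (fK (dz z) * z) = _
    simp only [AlgHom.toRingHom_eq_coe, RingHom.coe_coe]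
    ring
  have hA : ∀ p : A, algebraMap A K p ∈ τ.range := fun p => by
    have hp : p ∈ Algebra.adjoin ℤ (G : Set A) := hG ▸ Algebra.mem_top
    induction hp using Algebra.adjoin_induction with
    | mem q hq => exact hZ _ (Finset.mem_union_left _ (Finset.mem_image_of_mem _ hq))
    | algebraMap r =>
      rw [← IsScalarTower.algebraMap_apply ℤ A K]
      exact Subalgebra.algebraMap_mem _ r
    | add q r _ _ hq hr => rw [map_add]; exact add_mem hq hr
    | mul q r _ _ hq hr => rw [map_mul]; exact mul_mem hq hr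
  let ν : A →ₐ[ℤ] T := (AlgEquiv.ofInjective τ hτ).symm.toAlgHom.comp
    ((IsScalarTower.toAlgHom ℤ A K).codRestrict τ.range hA)
  have hν : ∀ p, τ (ν p) = algebraMap A K p := fun p =>
    congrArg Subtype.val ((AlgEquiv.ofInjective τ hτ).apply_symm_apply _)
  -- count
  obtain ⟨c, S, hc, hS, hk2⟩ := IntInduct.exists_count_ge s g (a * Polynomial.C (∏ z ∈ Z, dz z))
    (b * Polynomial.C (∏ z ∈ Z, dz z)) h hgm hgd hh (by
      simp only [h, map_mul]
      linear_combination (Polynomial.C (∏ z ∈ Z, dz z)) * hab)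
  refine ⟨c, S, hc, hS, fun ℓ hℓ F _ e => ?_⟩
  haveI : Fact ℓ.Prime := ⟨hS.1 ℓ hℓ⟩
  haveI : Finite F := Finite.of_equiv (ZMod ℓ) e.toEquiv
  set φ := Int.castRingHom (ZMod ℓ)
  let Pt := {p : (Fin s → ZMod ℓ) × ZMod ℓ //
    eval₂Hom φ p.1 h ≠ 0 ∧ g.eval₂ (eval₂Hom φ p.1) p.2 = 0}
  let ρ : Pt → (R →+* ZMod ℓ) := fun p => AdjoinRoot.lift (eval₂Hom φ p.1.1) p.1.2 p.2.2
  have hρ : ∀ p : Pt, IsUnit (ρ p hR) := fun p => by
    show IsUnit (AdjoinRoot.lift (eval₂Hom φ p.1.1) p.1.2 p.2.2 (AdjoinRoot.of g h))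
    rw [AdjoinRoot.lift_of]
    exact Ne.isUnit p.2.1
  let Ψ : Pt → (A →+* ZMod ℓ) := fun p =>
    (IsLocalization.Away.lift hR (hρ p) : T →+* ZMod ℓ).comp ν.toRingHom
  have hinj : Function.Injective Ψ := by
    intro p p' hpp
    have key : ∀ (w : K) (r : R), σ r = w → w ∈ insert y (Finset.univ.image x) →
        ρ p r = ρ p' r := by
      intro w r hr hw
      obtain ⟨u, hu⟩ := hZ _ (Finset.mem_union_right _ (Finset.mem_image_of_mem _ hw))
      have hden0 : algebraMap A K (den w) ≠ 0 := fun h0 =>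
        hden w (IsFractionRing.injective A K (h0.trans (map_zero _).symm))
      have h1 : ν (den w) * u = 1 := hτ (by
        rw [map_mul, hν, map_one]
        exact (congrArg (_ * ·) hu).trans (mul_inv_cancel₀ hden0))
      have h2 : algebraMap R T r * ν (den w) = ν (num w) := hτ (by
        rw [map_mul, hν, hν, hτR, hr, hnd])
      have h3 : ∀ q : Pt, ρ q r * Ψ q (den w) = Ψ q (num w) ∧ Ψ q (den w) ≠ 0 := fun q => by
        refine ⟨?_, fun h0 => ?_⟩
        · show ρ q r * (IsLocalization.Away.lift hR (hρ q) : T →+* ZMod ℓ) (ν (den w)) = _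
          rw [← IsLocalization.Away.lift_eq (S := T) hR (hρ q) r, ← map_mul, h2]
          rfl
        · have := congrArg (IsLocalization.Away.lift hR (hρ q) : T →+* ZMod ℓ) h1
          rw [map_mul, map_one] at this
          change Ψ q (den w) * _ = 1 at this
          rw [h0, zero_mul] at this
          exact zero_ne_one this
      have h4 := (h3 p).1
      rw [hpp, ← (h3 p').1] at h4
      exact mul_right_cancel₀ (h3 p').2 h4
    refine Subtype.ext (Prod.ext (funext fun i => ?_) ?_)
    · have := key (x i) (AdjoinRoot.of g (MvPolynomial.X i))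
        ((AdjoinRoot.lift_of hgy).trans (aeval_X x i))
        (Finset.mem_insert_of_mem (Finset.mem_image_of_mem _ (Finset.mem_univ i)))
      exact ((eval₂Hom_X' φ p.1.1 i).symm.trans ((AdjoinRoot.lift_of p.2.2).symm.trans this)).trans
        ((AdjoinRoot.lift_of p'.2.2).trans (eval₂Hom_X' φ p'.1.1 i))
    · have := key y (AdjoinRoot.root g) (AdjoinRoot.lift_root hgy) (Finset.mem_insert_self _ _)
      exact (AdjoinRoot.lift_root p.2.2).symm.trans (this.trans (AdjoinRoot.lift_root p'.2.2))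
  refine ⟨Nat.card Pt, hk2 ℓ hℓ, fun i => e.toRingHom.comp (Ψ ((Finite.equivFin Pt).symm i)),
    fun i i' hii => (Finite.equivFin Pt).symm.injective (hinj (RingHom.ext fun z =>
      e.injective (RingHom.congr_fun hii z)))⟩


end Groth.Agent.Lib.WeakLW.IntField
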