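import Groth.Agent.Lib.WeakLW.Abscissa
import Groth.Agent.Lib.WeakLW.IntField
import Groth.Agent.Lib.WeakLW.IntDim
import Mathlib.Algebra.Field.ULift
import Mathlib.Algebra.Ring.ULift

/-!
The abscissa of absolute convergence of the zeta series of a scheme of dimension `r` of finite type
over `ℤ` is at least `r`.
-/

universe u

set_option autoImplicit false
set_option linter.style.haveILetI false

open CategoryTheory AlgebraicGeometry

namespace Groth.Agent.Lib.WeakLW.IntAbscissa

open Groth.Agent.Lib.Zeta Groth.Agent.Lib.WeakLW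

variable {X : Scheme.{u}} (f : X ⟶ Spec (CommRingCat.of (ULift.{u} ℤ))) [LocallyOfFiniteType f]

include f in
/-- Points with finite residue field are closed. -/
theorem isClosed_of_finite (x : X) [Finite (X.residueField x)] : IsClosed ({x} : Set X) := by
  haveI := ArithScheme.isJacobsonRing_int
  haveI : IsJacobsonRing (ULift.{u} ℤ) :=
    isJacobsonRing_of_surjective
      ⟨(ULift.ringEquiv.symm : ℤ ≃+* ULift.{u} ℤ).toRingHom, fun y => ⟨y.down, rfl⟩⟩
  haveI : JacobsonSpace X := LocallyOfFiniteType.jacobsonSpace f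
  rw [isClosed_singleton_iff_locallyOfFiniteType]
  haveI : LocallyOfFiniteType (X.fromSpecResidueField x ≫ f) := by
    rw [← Spec.map_preimage (X.fromSpecResidueField x ≫ f),
      HasRingHomProperty.Spec_iff (P := @LocallyOfFiniteType)]
    letI := (Spec.preimage (X.fromSpecResidueField x ≫ f)).hom.toAlgebra
    haveI : Module.Finite (ULift.{u} ℤ) (X.residueField x) := Module.Finite.of_finite
    exact (inferInstance : Algebra.FiniteType (ULift.{u} ℤ) (X.residueField x))
  exact locallyOfFiniteType_of_comp _ f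

variable [QuasiCompact f] {r : ℕ} (hr : topologicalKrullDim X ≤ r)

include f hr in
theorem finite_cycles (n : ℕ) (hn : 0 < n) :
    Finite {α : X →₀ ℕ // (∀ x ∈ α.support, IsClosed ({x} : Set X)) ∧
      α.prod (fun x m => Nat.card (X.residueField x) ^ m) = n} := by
  classical
  haveI : JacobsonSpace X := by
    haveI := ArithScheme.isJacobsonRing_int
    haveI : IsJacobsonRing (ULift.{u} ℤ) :=
      isJacobsonRing_of_surjective
        ⟨(ULift.ringEquiv.symm : ℤ ≃+* ULift.{u} ℤ).toRingHom, fun y => ⟨y.down, rfl⟩⟩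
    exact LocallyOfFiniteType.jacobsonSpace f
  haveI : CompactSpace X := QuasiCompact.compactSpace_of_compactSpace f
  obtain ⟨C, p₀, hC⟩ := ArithScheme.exists_bound_closedPoints f r hr
  have hS : {x : X | IsClosed ({x} : Set X) ∧ Nat.card (X.residueField x) ≤ n}.Finite := by
    refine (Set.Finite.biUnion (t := fun j => {x : X | IsClosed ({x} : Set X) ∧
      Nat.card (X.residueField x) = j}) (Finset.finite_toSet (Finset.range (n + 1))) fun j _ => ?_).subset
      fun x hx => Set.mem_biUnion (Finset.mem_range.2 (Nat.lt_succ_of_le hx.2)) ⟨hx.1, rfl⟩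
    exact Set.finite_coe_iff.1 (hC j).1
  have key : ∀ (α : X →₀ ℕ), (∀ x ∈ α.support, IsClosed ({x} : Set X)) →
      α.prod (fun x m => Nat.card (X.residueField x) ^ m) = n →
      ∀ x ∈ α.support, x ∈ hS.toFinset ∧ α x ≤ n := by
    intro α hcl hprod x hx
    haveI := ArithScheme.finite_residueField f (hcl x hx)
    have h2 : 2 ≤ Nat.card (X.residueField x) := Finite.one_lt_card
    have hle := Nat.le_of_dvd hn (hprod ▸ Finset.dvd_prod_of_mem _ hx :
      Nat.card (X.residueField x) ^ α x ∣ n)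
    refine ⟨hS.mem_toFinset.2 ⟨hcl x hx, le_trans ?_ hle⟩, ?_⟩
    · exact Nat.le_self_pow (Finsupp.mem_support_iff.1 hx) _
    · exact ((Nat.lt_pow_self h2).le).trans hle
  refine Finite.of_injective
    (fun α => fun x : hS.toFinset => (⟨min (α.1 x.1) n, by omega⟩ : Fin (n + 1))) ?_
  intro α β hab
  refine Subtype.ext (Finsupp.ext fun x => ?_)
  by_cases hxS : x ∈ hS.toFinset
  · have h := congrArg Fin.val (congrFun hab ⟨x, hxS⟩)
    simp only at h
    have ha : α.1 x ≤ n := by
      by_cases hx : x ∈ α.1.support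
      · exact (key α.1 α.2.1 α.2.2 x hx).2
      · simp [Finsupp.notMem_support_iff.1 hx]
    have hb : β.1 x ≤ n := by
      by_cases hx : x ∈ β.1.support
      · exact (key β.1 β.2.1 β.2.2 x hx).2
      · simp [Finsupp.notMem_support_iff.1 hx]
    omega
  · have ha : α.1 x = 0 := Finsupp.notMem_support_iff.1 fun hx => hxS (key α.1 α.2.1 α.2.2 x hx).1
    have hb : β.1 x = 0 := Finsupp.notMem_support_iff.1 fun hx => hxS (key β.1 β.2.1 β.2.2 x hx).1
    rw [ha, hb]

include f hr in
/-- The coefficient at a prime bounds the number of points with values in the prime field. -/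
theorem card_points_le (ℓ : ℕ) [Fact ℓ.Prime] (F : Type u) [Field F] (e : ZMod ℓ ≃+* F) (N : ℕ)
    (g : Fin N → (Spec (CommRingCat.of F) ⟶ X)) (hg : Function.Injective g) :
    N ≤ _root_.Zeta.cycleNormCount X ℓ := by
  classical
  haveI := finite_cycles f hr ℓ (Fact.out : ℓ.Prime).pos
  haveI : Finite F := Finite.of_equiv (ZMod ℓ) e.toEquiv
  let pt : Fin N → X := fun i => (Scheme.SpecToEquivOfField F X (g i)).1
  have hbij : ∀ i, Function.Bijective (Scheme.SpecToEquivOfField F X (g i)).2.hom := fun i => by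
    refine ⟨RingHom.injective _, fun z => ?_⟩
    obtain ⟨m, rfl⟩ := e.surjective z
    obtain ⟨a, rfl⟩ := ZMod.intCast_surjective m
    exact ⟨(a : X.residueField (pt i)), by rw [map_intCast, map_intCast]⟩
  have hcard : ∀ i, Nat.card (X.residueField (pt i)) = ℓ := fun i => by
    rw [Nat.card_congr (Equiv.ofBijective _ (hbij i)), ← Nat.card_congr e.toEquiv, Nat.card_zmod]
  have hcl : ∀ i, IsClosed ({pt i} : Set X) := fun i => by
    haveI : Finite (X.residueField (pt i)) :=
      Finite.of_injective _ (hbij i).1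
    exact isClosed_of_finite f _
  rw [← Nat.card_fin N]
  refine Nat.card_le_card_of_injective (fun i => ⟨Finsupp.single (pt i) 1, fun x hx => ?_, ?_⟩) ?_
  · rw [Finsupp.support_single _ one_ne_zero, Finset.mem_singleton] at hx
    exact hx ▸ hcl i
  · rw [Finsupp.prod_single_index (by simp), pow_one, hcard]
  · intro i j hij
    have hpt : pt i = pt j := Finsupp.single_left_injective one_ne_zero (congrArg Subtype.val hij)
    refine hg ((Scheme.SpecToEquivOfField F X).injective ?_)
    have key : ∀ (p q : Σ x : X, X.residueField x ⟶ CommRingCat.of F), p.1 = q.1 →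
        Function.Surjective p.2.hom → p = q := by
      rintro ⟨x, φ⟩ ⟨x', φ'⟩ (rfl : x = x') hφ
      refine congrArg _ (CommRingCat.hom_ext (RingHom.ext fun z => ?_))
      obtain ⟨m, hm⟩ := e.surjective (φ.hom z)
      obtain ⟨a, rfl⟩ := ZMod.intCast_surjective m
      rw [map_intCast, ← map_intCast φ.hom] at hm
      rw [← φ.hom.injective hm, map_intCast, map_intCast]
    exact key _ _ hpt (hbij i).2

include f hr in
theorem cycleNormCount_mono {Z : Scheme.{u}} (i : Z ⟶ X) [IsImmersion i] [LocallyOfFiniteType (i ≫ f)]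
    (n : ℕ) : _root_.Zeta.cycleNormCount Z n ≤ _root_.Zeta.cycleNormCount X n ∨ n = 0 := by
  classical
  rcases Nat.eq_zero_or_pos n with hn | hn
  · exact Or.inr hn
  left
  haveI := finite_cycles f hr n hn
  have hinj : Function.Injective i := i.isEmbedding.injective
  have hres : ∀ z : Z, Nat.card (Z.residueField z) = Nat.card (X.residueField (i z)) := fun z =>
    (Nat.card_congr (Equiv.ofBijective _ (Points.bijective_residueFieldMap i z))).symm
  refine Nat.card_le_card_of_injective (fun α => ⟨Finsupp.mapDomain i α.1, fun x hx => ?_, ?_⟩) ?_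
  · obtain ⟨z, hz, rfl⟩ := Finset.mem_image.1 (Finsupp.mapDomain_support hx)
    haveI := ArithScheme.finite_residueField (i ≫ f) (α.2.1 z hz)
    haveI : Finite (X.residueField (i z)) :=
      Finite.of_injective _ (Points.bijective_residueFieldMap i z).1
    exact isClosed_of_finite f _
  · rw [Finsupp.prod_mapDomain_index_inj hinj]
    refine Eq.trans (Finset.prod_congr rfl fun z _ => ?_) α.2.2
    show Nat.card (X.residueField (i z)) ^ _ = Nat.card (Z.residueField z) ^ _
    rw [hres]
  · intro a b hab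
    exact Subtype.ext (Finsupp.mapDomain_injective hinj (congrArg Subtype.val hab))

include f hr in
theorem abscissa_mono {Z : Scheme.{u}} (i : Z ⟶ X) [IsImmersion i] [LocallyOfFiniteType (i ≫ f)] :
    LSeries.abscissaOfAbsConv (_root_.Zeta.arithCoeff Z) ≤
      LSeries.abscissaOfAbsConv (_root_.Zeta.arithCoeff X) := by
  refine LSeries.abscissaOfAbsConv_le_of_forall_lt_LSeriesSummable' fun y hy => ?_
  have h := LSeriesSummable_of_abscissaOfAbsConv_lt_re (s := (y : ℂ)) (by simpa using hy)
  refine Summable.of_norm_bounded h.norm fun n => ?_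
  rcases Nat.eq_zero_or_pos n with rfl | hn
  · simp
  refine LSeries.norm_term_le (y : ℂ) ?_
  rw [_root_.Zeta.arithCoeff, _root_.Zeta.arithCoeff, Complex.norm_natCast, Complex.norm_natCast,
    Nat.cast_le]
  exact (cycleNormCount_mono f hr i n).resolve_right hn.ne'

include f hr in
/-- Divergence from many points modulo many primes. -/
theorem le_abscissa_of_points (s : ℕ) (c : ℝ) (hc : 0 < c) (S : Set ℕ) (hS : IntInduct.Big S)
    (hpts : ∀ ℓ ∈ S, c * (ℓ : ℝ) ^ s ≤ _root_.Zeta.cycleNormCount X ℓ) :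
    (((s + 1 : ℕ) : ℝ) : EReal) ≤ LSeries.abscissaOfAbsConv (_root_.Zeta.arithCoeff X) := by
  by_contra hlt
  rw [not_le] at hlt
  obtain ⟨σ, hs1, hs2⟩ := EReal.exists_between_coe_real hlt
  have hσ : σ < ((s + 1 : ℕ) : ℝ) := EReal.coe_lt_coe_iff.1 hs2
  push_cast at hσ
  have hsum : LSeriesSummable (_root_.Zeta.arithCoeff X) (σ : ℂ) :=
    LSeriesSummable_of_abscissaOfAbsConv_lt_re (by simpa using hs1)
  refine hS.2 (σ - s) (by linarith) ?_
  refine Summable.of_nonneg_of_le (fun n => Set.indicator_nonneg (fun m _ => by positivity) n)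
    (fun n => ?_) (hsum.norm.mul_left c⁻¹)
  by_cases hn : n ∈ S
  swap
  · rw [Set.indicator_of_notMem hn]
    positivity
  have hn0 : (0 : ℝ) < n := by exact_mod_cast (hS.1 n hn).pos
  rw [Set.indicator_of_mem hn, LSeries.norm_term_eq, if_neg (hS.1 n hn).ne_zero,
    Complex.ofReal_re, _root_.Zeta.arithCoeff, Complex.norm_natCast, le_inv_mul_iff₀ hc,
    le_div_iff₀ (Real.rpow_pos_of_pos hn0 _), mul_assoc, ← Real.rpow_add hn0,
    show -(σ - (s : ℝ)) + σ = (s : ℝ) by ring, Real.rpow_natCast]
  exact hpts n hn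

include f in
omit hr in
theorem le_abscissa (r : ℕ) (hr : topologicalKrullDim X = r) :
    ((r : ℝ) : EReal) ≤ LSeries.abscissaOfAbsConv (_root_.Zeta.arithCoeff X) := by
  classical
  obtain ⟨x, hx⟩ := Abscissa.exists_le_cohtPt r hr
  obtain ⟨_, ⟨U, hU, rfl⟩, hxU, -⟩ :=
    X.isBasis_affineOpens.exists_subset_of_mem_open (Set.mem_univ x) isOpen_univ
  set R := Γ(X, U)
  have hdim : ringKrullDim R = r := by
    rw [← PrimeSpectrum.topologicalKrullDim_eq_ringKrullDim]
    haveI : QuasiSober (U : Set X) := U.2.isOpenEmbedding_subtypeVal.quasiSober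
    have e : topologicalKrullDim (U : Set X) = topologicalKrullDim (PrimeSpectrum R) :=
      IsHomeomorph.topologicalKrullDim_eq _ (Scheme.homeoOfIso hU.isoSpec).isHomeomorph
    rw [← e]
    refine le_antisymm ((topologicalKrullDim_subspace_le X U).trans hr.le) ?_
    refine le_of_le_of_eq ?_ (Lib.AlgSpDecent.SpecOrder.topologicalKrullDim_open U.2).symm
    exact le_iSup_of_le ⟨x, hxU⟩ (WithBot.coe_le_coe.2 hx)
  obtain ⟨ψ, hψ⟩ : ∃ ψ : CommRingCat.of (ULift.{u} ℤ) ⟶ R, Spec.map ψ = hU.fromSpec ≫ f :=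
    ⟨_, Spec.map_preimage _⟩
  haveI : Algebra.FiniteType ℤ R := by
    have h1 : RingHom.FiniteType ψ.hom := by
      rw [← HasRingHomProperty.Spec_iff (P := @LocallyOfFiniteType), hψ]
      infer_instance
    rw [← RingHom.finiteType_algebraMap, RingHom.ext_int (algebraMap ℤ R)
      (ψ.hom.comp (ULift.ringEquiv.symm.toRingHom : ℤ →+* ULift.{u} ℤ))]
    exact h1.comp (RingHom.FiniteType.of_surjective _ ULift.ringEquiv.symm.surjective)
  obtain ⟨p, hp, hpd⟩ := Abscissa.exists_prime_dim_eq R r hdim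
  haveI := hp
  haveI : Algebra.FiniteType ℤ (R ⧸ p) :=
    (inferInstance : Algebra.FiniteType ℤ R).of_surjective (Ideal.Quotient.mkₐ ℤ p) (Ideal.Quotient.mkₐ_surjective ℤ p)
  obtain ⟨q, hq⟩ := CharP.exists (R ⧸ p)
  rcases CharP.char_is_prime_or_zero (R ⧸ p) q with hqp | rfl
  · haveI : Fact q.Prime := ⟨hqp⟩
    let k := ULift.{u} (ZMod q)
    let toK : k →+* R ⧸ p := (ZMod.castHom (dvd_refl q) (R ⧸ p)).comp ULift.ringEquiv.toRingHom
    letI := toK.toAlgebra
    haveI : Algebra.FiniteType k (R ⧸ p) := by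
      refine RingHom.FiniteType.of_comp_finiteType (f := Int.castRingHom k) ?_
      rw [RingHom.ext_int (toK.comp (Int.castRingHom k)) (algebraMap ℤ (R ⧸ p))]
      exact RingHom.finiteType_algebraMap.2 inferInstance
    let g : Spec (CommRingCat.of (R ⧸ p)) ⟶ Spec (CommRingCat.of k) :=
      Spec.map (CommRingCat.ofHom toK)
    haveI : LocallyOfFiniteType g := by
      rw [HasRingHomProperty.Spec_iff (P := @LocallyOfFiniteType)]
      exact (inferInstance : Algebra.FiniteType k (R ⧸ p))
    let i : Spec (CommRingCat.of (R ⧸ p)) ⟶ X :=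
      Spec.map (CommRingCat.ofHom (Ideal.Quotient.mk p)) ≫ hU.fromSpec
    haveI : IsClosedImmersion (Spec.map (CommRingCat.ofHom (Ideal.Quotient.mk p))) :=
      IsClosedImmersion.spec_of_surjective _ Ideal.Quotient.mk_surjective
    have hrd : topologicalKrullDim (Spec (CommRingCat.of (R ⧸ p))) = r :=
      (PrimeSpectrum.topologicalKrullDim_eq_ringKrullDim (R ⧸ p)).trans hpd
    refine le_trans ?_ (abscissa_mono f hr.le i)
    exact_mod_cast Abscissa.le_abscissa g r hrd
  · haveI := CharP.charP_to_charZero (R ⧸ p)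
    let K := FractionRing (R ⧸ p)
    haveI : CharZero K := charZero_of_injective_algebraMap (IsFractionRing.injective (R ⧸ p) K)
    haveI : @Algebra.FiniteType ℤ (R ⧸ p) _ _ (Ring.toIntAlgebra _) := by
      letI : Algebra ℤ (R ⧸ p) := Ring.toIntAlgebra _
      rw [← RingHom.finiteType_algebraMap, RingHom.ext_int (algebraMap ℤ (R ⧸ p))
        ((Ideal.Quotient.mk p).comp (algebraMap ℤ R))]
      exact (RingHom.FiniteType.of_surjective _ Ideal.Quotient.mk_surjective).comp
        (RingHom.finiteType_algebraMap.2 inferInstance)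
    obtain ⟨c, S, hc, hS, hpts⟩ := IntField.exists_points (R ⧸ p) K
    haveI : Algebra.EssFiniteType ℚ K := IntField.essFiniteType_rat (R ⧸ p) K
    set s := Cardinal.toNat (Algebra.trdeg ℚ K) with hs
    have htr : Algebra.trdeg ℚ K = s := by
      obtain ⟨T, hT, -⟩ := exists_isTranscendenceBasis_and_isSeparable_of_perfectField ℚ K
      rw [hs, ← hT.cardinalMk_eq_trdeg, Cardinal.cast_toNat_of_lt_aleph0]
      exact Cardinal.lt_aleph0_of_finite _
    have hle := IntDim.ringKrullDim_le (R ⧸ p) K s htr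
    rw [hpd] at hle
    have hrs : r ≤ s + 1 := by exact_mod_cast hle
    refine le_trans (EReal.coe_le_coe_iff.2 (Nat.cast_le.2 hrs))
      (le_abscissa_of_points f hr.le s c hc S hS fun ℓ hℓ => ?_)
    haveI : Fact ℓ.Prime := ⟨hS.1 ℓ hℓ⟩
    let e : ZMod ℓ ≃+* ULift.{u} (ZMod ℓ) := ULift.ringEquiv.symm
    obtain ⟨N, hN, Φ, hΦ⟩ := hpts ℓ hℓ (ULift.{u} (ZMod ℓ)) e
    refine hN.trans (Nat.cast_le.2 (card_points_le f hr.le ℓ (ULift.{u} (ZMod ℓ)) e N
      (fun i => Spec.map (CommRingCat.ofHom ((Φ i).comp (Ideal.Quotient.mk p))) ≫ hU.fromSpec) ?_))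
    intro i j hij
    refine hΦ (Ideal.Quotient.ringHom_ext ?_)
    simp only [cancel_mono] at hij
    exact congrArg CommRingCat.Hom.hom (Spec.map_injective hij)

end Groth.Agent.Lib.WeakLW.IntAbscissa
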